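import Cfsg.Agent.H6.DCE5
import Cfsg.Agent.H6.DCE4
import Cfsg.Agent.H6.HNR.L3
import Cfsg.Agent.H6.HNR.L2
import Cfsg.Agent.H6.HNR.Carm
import Cfsg.Agent.BS.All
import Cfsg.Agent.H9.SPE

/-! General tools: bounds through quotients, strong embedding, sifting in a centraliser. -/

set_option autoImplicit false

namespace Cfsg.H6

open scoped commutatorElement

variable {G : Type*} [Group G]

theorem ub_quot {N : Subgroup G} [N.Normal] {a b : ℕ} (hN : UB N a)
    (hQ : UB (⊤ : Subgroup (G ⧸ N)) b) : UB (⊤ : Subgroup G) (b * a) := by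
  have := hN.1
  obtain ⟨h1, h2⟩ := hQ.top
  have : Finite G := Finite.of_subgroup_quotient N
  refine ⟨inferInstance, ?_⟩
  rw [Subgroup.card_top, Subgroup.card_eq_card_quotient_mul_card_subgroup N]
  exact Nat.mul_le_mul h2 hN.2

theorem ub_zpowers {z : G} {k : ℕ} (hk : 0 < k) (h : z ^ k = 1) : UB (Subgroup.zpowers z) k := by
  have h1 : IsOfFinOrder z := isOfFinOrder_iff_pow_eq_one.mpr ⟨k, hk, h⟩
  exact ⟨finite_zpowers.mpr h1, by rw [Nat.card_zpowers]; exact orderOf_le_of_pow_eq_one hk h⟩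

theorem carm_ub (y : ℕ → G) (h : ∀ i < 9, y (i + 1) ^ 3 = 1 ∧ ∀ j < i, (y (i + 1) * y (j + 1)) ^ 2 = 1) :
    UB (gen y (Carm.L 9)) 19958400 := by
  have ub : ∀ n ≤ 9, UB (gen y (Carm.L n)) ((n + 2).factorial / 2) := fun n => by
    induction n with
    | zero => exact fun _ => UB.bot
    | succ n ih =>
      intro hn
      have := (ih (by omega)).cover (Carm.step y n (fun i hi => (h i (by omega)).1)
        fun i hi j hj => (h i (by omega)).2 j hj)
      refine ⟨this.1, this.2.trans (le_of_eq ?_)⟩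
      have : n < 9 := hn
      interval_cases n <;> rfl
  exact ub 9 le_rfl

theorem eq_one_of_zp3 {x g : G} (h3 : x ^ 3 = 1) (hg : g ∈ Subgroup.zpowers x) {S : Subgroup G}
    (hx : x ∉ S) (hS : g ∈ S) : g = 1 := by
  obtain ⟨i, rfl⟩ := hg
  have e : x ^ i = x ^ (i % 3) := by
    conv_lhs => rw [← Int.mul_ediv_add_emod i 3, zpow_add, zpow_mul, show x ^ (3 : ℤ) = 1 from
      (zpow_natCast x 3).trans h3, one_zpow, one_mul]
  have : i % 3 = 0 ∨ i % 3 = 1 ∨ i % 3 = 2 := by omega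
  change x ^ i ∈ S at hS
  show x ^ i = 1
  rcases this with h | h | h <;> rw [e, h] at hS ⊢
  · exact zpow_zero x
  · exact absurd (by simpa using hS) hx
  · refine absurd ?_ hx
    have := S.mul_mem hS hS
    rwa [← zpow_add, show (2 : ℤ) + 2 = (3 : ℕ) + 1 from rfl, zpow_add, zpow_natCast, h3, one_mul,
      zpow_one] at this

theorem hom_ext_gen {G' : Type*} [Group G'] {ev : ℕ → G} {X : List (List ℕ)} (hX : gen ev X = ⊤)
    {f g : G →* G'} (h : ∀ l, f (ev l) = g (ev l)) (x : G) : f x = g x :=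
  DFunLike.congr_fun (MonoidHom.eq_of_eqOn_dense hX (by
    rintro _ ⟨w, _, rfl⟩
    show f _ = g _
    rw [map_evL, map_evL, funext h])) x

theorem Par.not_mem_rowStab {P : Par} {code : ℕ → ℕ} {x j : ℕ} (hd : 0 < P.d)
    {μ : G →* Matrix (Fin P.d) (Fin P.d) (ZMod P.q)} {g : G} (hg : μ g = P.mat code x)
    (h : (Nat.blt 0 j && Nat.blt j P.d && !Nat.beq (P.dgt (code x) 0 j % P.q) 0) = true) :
    g ∉ Par.rowStab μ ⟨0, hd⟩ := by
  simp only [Bool.and_eq_true, Nat.blt_eq, Bool.not_eq_true', ← Bool.not_eq_true, Nat.beq_eq] at h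
  intro e
  have h1 := congrFun (show Matrix.vecMul _ _ = _ from e) ⟨j, h.1.2⟩
  rw [Matrix.single_one_vecMul, hg, Pi.single_eq_of_ne (fun c => h.1.1.ne' (congrArg Fin.val c))] at h1
  exact h.2 (Nat.mod_eq_zero_of_dvd ((ZMod.natCast_eq_zero_iff _ _).mp h1))

theorem cent_of_fix {φ : G →* Equiv.Perm ℕ} {ev : ℕ → G} {img : ℕ → ℕ → ℕ} {n m : ℕ}
    (ha : IsAct φ ev img n m) {Ws U : List (List ℕ)} {us tw : List ℕ}
    (hle : ∀ g ∈ fixS φ [0], Commute g (evL ev tw)) (hlt : ∀ g, φ g 0 < n)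
    (hU : ∀ u ∈ U, ¬ Commute (evL ev u) (evL ev tw))
    (h : (Nat.blt 0 n && fixB img m [0] tw && Ws.all (fixB img m [0]) && U.all (inR m) &&
      orbK img Ws (fun M => allB (fun p => Nat.beq p 0 || bit M p || !Nat.beq (trF img tw p) p) n) us
        (maskI (U.map fun u => trF img u 0))) = true) (g : G) (hg : Commute g (evL ev tw)) :
    g ∈ fixS φ [0] := by
  simp only [Bool.and_eq_true, Nat.blt_eq] at h
  obtain ⟨⟨⟨⟨h0, h9⟩, h4⟩, h5⟩, h6⟩ := h
  have hb : ∀ b ∈ [0], b < n := by simpa using h0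
  have hlt' : (φ g)⁻¹ 0 < n := by rw [← map_inv]; exact hlt _
  obtain ⟨M, hM, hf⟩ := orbK_sound
    (P := fun p => p < n ∧ ∃ k, ¬ Commute k (evL ev tw) ∧ (φ k)⁻¹ 0 = p) (by
      rintro w hw p ⟨hp, k, k2, rfl⟩
      have h7 := List.all_eq_true.mp h4 w hw
      have c2 := hle _ (ha.mem_fixS hb h7)
      unfold fixB at h7
      rw [Bool.and_eq_true] at h7
      have h8 := ha.trF h7.1 hp
      refine ⟨h8.2, k * evL ev w, fun c => k2 ?_, by
        rw [← h8.1, map_mul, mul_inv_rev, Equiv.Perm.mul_apply]⟩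
      simpa using c.mul_left c2.inv_left) _ _ (by
      intro p hp
      obtain ⟨u, hu, rfl⟩ := List.mem_map.mp (maskI_spec hp)
      have h8 := ha.trF (List.all_eq_true.mp h5 u hu) h0
      exact ⟨h8.2, evL ev u, hU u hu, h8.1⟩) h6
  have h7 := allB_spec hf _ hlt'
  simp only [Bool.or_eq_true, Nat.beq_eq, nbeq_iff] at h7
  refine mem_fixS'.mpr fun b hb' => ?_
  rw [List.mem_singleton.mp hb']
  rcases h7 with (h7 | h7) | h7
  · exact h7
  · obtain ⟨_, k, k2, k3⟩ := hM _ (bit_spec h7)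
    refine absurd ?_ k2
    have := hle (k * g⁻¹) (mem_fixS'.mpr fun b hb' => by
      rw [List.mem_singleton.mp hb', map_mul, mul_inv_rev, map_inv, inv_inv, Equiv.Perm.mul_apply, k3]
      simp)
    simpa using this.mul_left hg
  · refine absurd ?_ h7
    have k2 : (φ (evL ev tw))⁻¹ 0 = 0 :=
      mem_fixS'.mp (ha.mem_fixS hb h9) 0 (List.mem_singleton_self 0)
    unfold fixB at h9
    rw [Bool.and_eq_true] at h9
    rw [← (ha.trF h9.1 hlt').1, ← Equiv.Perm.mul_apply, ← mul_inv_rev, ← map_mul, hg.eq, map_mul,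
      mul_inv_rev, Equiv.Perm.mul_apply, k2]

theorem LBn.mul_le {φ : G →* Equiv.Perm ℕ} {K : Subgroup G} [Finite K] {n N p : ℕ} {bs : List ℕ}
    (h : LBn φ K n bs N) (hp : p.Prime) {z : G} (h1 : z ∈ K) (h2 : z ∈ fixS φ bs) (h3 : z ≠ 1)
    (h4 : z ^ p = 1) : N * p ≤ Nat.card K := by
  have := Fact.mk hp
  have : Finite (K ⊓ fixS φ bs : Subgroup G) :=
    Finite.of_injective _ (Subgroup.inclusion_injective inf_le_left)
  refine le_trans (Nat.mul_le_mul_left _ (Nat.le_of_dvd Nat.card_pos ?_)) h.1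
  rw [← orderOf_eq_prime h4 h3]
  exact Subgroup.orderOf_dvd_natCard _ (Subgroup.mem_inf.mpr ⟨h1, h2⟩)

theorem not_solvable_of_comm {X : Subgroup G} {z p q : G} (hz : z ∈ X) (hp : p ∈ X) (hq : q ∈ X)
    (h1 : z ≠ 1) {k : ℕ} (e : ⁅p * z * p⁻¹, q * z * q⁻¹⁆ ^ k = z) : ¬ Group.IsSolvable X := by
  refine not_isSolvable_of_mem_derivedSeries (g := ⟨z, hz⟩) (fun c => h1 (congrArg Subtype.val c))
    fun n => ?_
  induction n with
  | zero => exact Subgroup.mem_top _
  | succ n ih =>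
    have a := (derivedSeries X (n + 1)).pow_mem (Subgroup.commutator_mem_commutator
      ((derivedSeries_normal X n).conj_mem _ ih ⟨p, hp⟩)
      ((derivedSeries_normal X n).conj_mem _ ih ⟨q, hq⟩)) k
    convert a using 1
    exact Subtype.ext e.symm

theorem bender_le [Finite G] {X K : Subgroup G} (hXK : X ≤ K) {t s : G} (t2 : t * t = 1) (t1 : t ≠ 1)
    (tX : t ∈ X) (hc : ∀ y ∈ K, Commute y t → y ∈ X)
    (hi : ∀ y ∈ K, Commute y t → y * y = 1 → y ≠ 1 → ∃ k ∈ X, k⁻¹ * t * k = y)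
    (sK : s ∈ K) (s2 : s * s = 1) (s1 : s ≠ 1) (st : s ≠ t) (c : Commute s t)
    (ns : ¬ Group.IsSolvable X) : K ≤ X := by
  by_contra hn
  have := Fact.mk Nat.prime_two
  have all : ∀ y ∈ X, y * y = 1 → y ≠ 1 → ∃ k ∈ X, k⁻¹ * t * k = y := fun y hy y2 y1 => by
    rcases dihedral t2 y2 with ⟨j, e⟩ | ⟨z, z1, z2, z3, z4, ⟨j, e⟩, _⟩
    · exact ⟨_, X.pow_mem (X.mul_mem tX hy) j, e⟩
    · obtain ⟨k, hk, rfl⟩ := hi z (e ▸ K.pow_mem (hXK (X.mul_mem tX hy)) j) z3 z2 z1
      have a := commute_cj z4.symm k⁻¹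
      rw [show k⁻¹⁻¹ * (k⁻¹ * t * k) * k⁻¹ = t by group] at a
      obtain ⟨k', hk', e'⟩ := hi _ (hXK (X.mul_mem (X.mul_mem (X.inv_mem (X.inv_mem hk)) hy)
        (X.inv_mem hk))) a (sq_cj y2 _) (fun e => y1 (by
          rw [show y = k⁻¹ * (k⁻¹⁻¹ * y * k⁻¹) * k by group, e]; group))
      exact ⟨k' * k, X.mul_mem hk' hk, by
        rw [show (k' * k)⁻¹ * t * (k' * k) = k⁻¹ * (k'⁻¹ * t * k') * k by group, e']; group⟩
  have spe : H9.SPE 2 X K := H9.spe_of_ti hXK (fun e => hn e.ge)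
    (H9.dvd_card_of_mem tX t1 (by rw [pow_two, t2])) fun g hg hd => by
      obtain ⟨y, hy, y1, y2⟩ := H9.exists_mem_pow_eq_one_of_dvd hd
      rw [pow_two] at y2
      obtain ⟨a, ha, e1⟩ := all y hy.1 y2 y1
      obtain ⟨b, hb, e2⟩ := all _ (H7.mem_cj.mp hy.2) (sq_cj y2 _) (fun e => y1 (by
        rw [show y = g * (g⁻¹ * y * g) * g⁻¹ by group, e]; group))
      have := hc (a * g * b⁻¹) (K.mul_mem (K.mul_mem (hXK ha) hg) (K.inv_mem (hXK hb)))
        (commute_of_cj (by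
          rw [show (a * g * b⁻¹)⁻¹ * t * (a * g * b⁻¹) = b * (g⁻¹ * (a⁻¹ * t * a) * g) * b⁻¹ by group,
            e1, ← e2]
          group))
      rwa [X.mul_mem_cancel_right (X.inv_mem hb), X.mul_mem_cancel_left ha] at this
  have rk : PRankAtLeast 2 2 K := by
    let a : K := ⟨t, hXK tX⟩
    let b : K := ⟨s, sK⟩
    have a2 : a * a = 1 := Subtype.ext t2
    have b2 : b * b = 1 := Subtype.ext s2
    have ab : Commute a b := Subtype.ext c.symm.eq
    have hc' : ∀ k ∈ Subgroup.zpowers a, Commute b k := fun k hk => by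
      obtain ⟨i, rfl⟩ := hk; exact ab.symm.zpow_right i
    have key : ∀ x ∈ ext2 (Subgroup.zpowers a) b b2 hc', ∃ i j : ℤ, x = b ^ j * a ^ i := by
      rintro x (⟨i, rfl⟩ | ⟨_, ⟨i, rfl⟩, rfl⟩)
      exacts [⟨i, 0, by simp⟩, ⟨i, 1, by simp⟩]
    refine ⟨ext2 (Subgroup.zpowers a) b b2 hc', ⟨⟨fun x y => Subtype.ext ?_⟩⟩, fun x hx => ?_, ?_⟩
    · obtain ⟨i, j, e⟩ := key _ x.2
      obtain ⟨i', j', e'⟩ := key _ y.2
      show x.1 * y.1 = y.1 * x.1
      rw [e, e']
      exact (((Commute.refl b).zpow_zpow _ _).mul_right (ab.symm.zpow_zpow _ _)).mul_left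
        ((ab.zpow_zpow _ _).mul_right ((Commute.refl a).zpow_zpow _ _))
    · obtain ⟨i, j, rfl⟩ := key _ hx
      rw [(ab.symm.zpow_zpow _ _).mul_pow, ← zpow_natCast, ← zpow_natCast, ← zpow_mul, ← zpow_mul,
        mul_comm j, mul_comm i, zpow_mul, zpow_mul, zpow_natCast, zpow_natCast, pow_two, pow_two, a2, b2]
      simp
    · classical
      have h4 : ({1, a, b, b * a} : Finset K).card = 4 := by
        have n1 : (1 : K) ≠ a := fun e => t1 (congrArg Subtype.val e).symm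
        have n2 : (1 : K) ≠ b := fun e => s1 (congrArg Subtype.val e).symm
        have n3 : a ≠ b := fun e => st (congrArg Subtype.val e).symm
        have n4 : (1 : K) ≠ b * a := fun e => n3 (by
          rw [← one_mul a, ← b2, mul_assoc, ← e, mul_one])
        have n5 : a ≠ b * a := fun e => n2 (by simpa [eq_comm] using e)
        have n6 : b ≠ b * a := fun e => n1 (by simpa [eq_comm] using e)
        rw [Finset.card_insert_of_notMem (by simp [n1, n2, n4]),
          Finset.card_insert_of_notMem (by simp [n3, n5]), Finset.card_pair n6]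
      rw [show 2 ^ 2 = 4 from rfl, ← h4, ← Nat.card_eq_finsetCard]
      refine Nat.card_le_card_of_injective (fun x => ⟨x.1, ?_⟩) fun x y e =>
        Subtype.ext (Subtype.mk.inj e)
      have := x.2
      simp only [Finset.mem_insert, Finset.mem_singleton] at this
      rcases this with e | e | e | e <;> rw [e]
      exacts [one_mem _, Or.inl (Subgroup.mem_zpowers a), Or.inr ⟨1, one_mem _, (mul_one b).symm⟩,
        Or.inr ⟨a, Subgroup.mem_zpowers a, rfl⟩]
  have := Cfsg.BS.bender.sol rk _ spe.isStronglyPEmbedded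
  exact ns (Group.isSolvable_of_surjective (f := (Subgroup.subgroupOfEquivOfLe hXK).toMonoidHom)
    (Subgroup.subgroupOfEquivOfLe hXK).surjective)

end Cfsg.H6
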