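import Cfsg.Agent.H6.LR.B1
import Cfsg.Agent.H6.UBChain

/-! Centraliser bounds on a small action, moved points, and conjugation by an outside element. -/

set_option autoImplicit false

namespace Cfsg.H6

variable {G : Type*} [Group G]

theorem exists_hom_of_mats {G' M : Type*} [Group G'] [Monoid M] (μ : G →* M) (ν : G' →* M)
    (hν : Function.Injective ν) {ev : ℕ → G} {X : List (List ℕ)} (hX : gen ev X = ⊤)
    (h : ∀ w ∈ X, ∃ g, ν g = μ (evL ev w)) : ∃ ψ : G →* G', ∀ g, ν (ψ g) = μ g := by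
  have all : ∀ x, ∃ g, ν g = μ x := fun x => by
    have hx : x ∈ gen ev X := hX ▸ Subgroup.mem_top x
    induction hx using Subgroup.closure_induction with
    | mem y hy => obtain ⟨w, hw, rfl⟩ := hy; exact h w hw
    | one => exact ⟨1, by rw [map_one, map_one]⟩
    | mul a b _ _ ha hb =>
      obtain ⟨g, e⟩ := ha
      obtain ⟨g', e'⟩ := hb
      exact ⟨g * g', by rw [map_mul, map_mul, e, e']⟩
    | inv a _ ha =>
      obtain ⟨g, e⟩ := ha
      refine ⟨g⁻¹, ?_⟩
      calc ν g⁻¹ = ν g⁻¹ * (μ a * μ a⁻¹) := by rw [← map_mul, mul_inv_cancel, map_one, mul_one]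
        _ = μ a⁻¹ := by rw [← e, ← mul_assoc, ← map_mul, inv_mul_cancel, map_one, one_mul]
  choose f hf using all
  exact ⟨MonoidHom.mk' f fun a b => hν (by rw [map_mul, hf, hf, hf, map_mul]), hf⟩

variable {φ : G →* Equiv.Perm ℕ} {ev : ℕ → G} {img : ℕ → ℕ → ℕ} {n m : ℕ}

theorem card_le_of_chainN (φ : G →* Equiv.Perm ℕ) (N : ℕ) (hlt : ∀ g p, p < N → (φ g)⁻¹ p < N)
    (P : List ℕ → ℕ → ℕ → Bool)
    (hP : ∀ bs b g, b < N → g ∈ fixS φ bs → P bs b ((φ g)⁻¹ b) = true) (todo : List ℕ) :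
    (∀ b ∈ todo, b < N) → ∀ done : List ℕ, Nat.card (fixS φ done) ≤
      prodCnt P N todo done * Nat.card (fixS φ (todo.reverse ++ done)) := by
  induction todo with
  | nil => intro _ done; simp [prodCnt]
  | cons b todo ih =>
    intro hb done
    have e : prodCnt P N (b :: todo) done = cnt (P done b) N * prodCnt P N todo (b :: done) := rfl
    rw [e, card_fixS_cons φ b, List.reverse_cons, List.append_assoc, mul_assoc]
    refine Nat.mul_le_mul ?_ (ih (fun c hc => hb c (List.mem_cons_of_mem _ hc)) (b :: done))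
    rw [cnt_eq, ← Set.ncard_coe_finset]
    refine Set.ncard_le_ncard ?_ (Finset.finite_toSet _)
    rintro v ⟨g, hg, rfl⟩
    have h0 := hb b List.mem_cons_self
    simpa using ⟨hlt g b h0, hP done b g h0 hg⟩

/-- The images allowed for an element commuting with the map `f`. -/
def cenP (f : ℕ → ℕ) (n : ℕ) (bs : List ℕ) (b p : ℕ) : Bool :=
  (Nat.beq p b || (!bs.elem p && !bs.any fun c => Nat.blt c n && Nat.beq (f c) b)) &&
    (Nat.beq (f b) b == Nat.beq (f p) p)

theorem ub_cen [Finite G] (ha : IsAct φ ev img n m) (hlt : ∀ g p, p < n → (φ g)⁻¹ p < n)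
    {zw : List ℕ} {S Z : Subgroup G} (hZ : ∀ z ∈ Z, ∀ q < n, (φ z)⁻¹ q = q)
    (hS : ∀ g ∈ S, ∃ z ∈ Z, evL ev zw * g = g * evL ev zw * z) {todo : List ℕ}
    {a N : ℕ} (hb : UB (fixS φ todo.reverse) a)
    (hc : (inR m zw && ltB n todo &&
      Nat.ble (prodCnt (cenP (trF img zw) n) n todo [] * a) N) = true) : UB S N := by
  simp only [Bool.and_eq_true, Nat.ble_eq] at hc
  obtain ⟨⟨hz, h1⟩, h2⟩ := hc
  have := card_le_of_chainN (φ.comp S.subtype) n (fun g => hlt g) (cenP (trF img zw) n)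
    (fun bs b g h0 hg => by
      have c : ∀ q < n, (φ g)⁻¹ ((φ (evL ev zw))⁻¹ q) = (φ (evL ev zw))⁻¹ ((φ g)⁻¹ q) :=
          fun q hq => by
        obtain ⟨z, z1, z2⟩ := hS g g.2
        rw [← hZ z z1 _ (hlt _ _ (hlt g q hq)), ← Equiv.Perm.mul_apply, ← mul_inv_rev, ← map_mul, z2,
          map_mul, map_mul, mul_inv_rev, mul_inv_rev]
        rfl
      have f := mem_fixS'.mp hg
      change ∀ b ∈ bs, (φ g)⁻¹ b = b at f
      change cenP _ n bs b ((φ g)⁻¹ b) = true
      unfold cenP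
      rw [Bool.and_eq_true, ← (ha.trF hz h0).1, ← (ha.trF hz (hlt g b h0)).1, ← c b h0]
      refine ⟨?_, ?_⟩
      · by_cases e : (φ g)⁻¹ b = b
        · simp [e]
        · rw [Bool.or_eq_true, Bool.and_eq_true]
          refine Or.inr ⟨?_, ?_⟩
          · rw [Bool.not_eq_true', ← Bool.not_eq_true, List.elem_iff]
            exact fun h => e ((φ g)⁻¹.injective (f _ h))
          · rw [Bool.not_eq_true', ← Bool.not_eq_true, List.any_eq_true]
            rintro ⟨q, hq, h⟩
            rw [Bool.and_eq_true, Nat.blt_eq, Nat.beq_eq, ← (ha.trF hz h.1).1] at h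
            exact e (by rw [← h.2, c q h.1, f q hq])
      · rw [beq_iff_eq, Bool.eq_iff_iff, Nat.beq_eq, Nat.beq_eq, Equiv.apply_eq_iff_eq])
    todo (ltB_spec h1) []
  rw [fixS_nil, Subgroup.card_top, List.append_nil] at this
  refine ⟨inferInstance, this.trans (le_trans (Nat.mul_le_mul_left _ (le_trans ?_ hb.2)) h2)⟩
  exact Nat.card_le_card_of_injective (fun x => ⟨x.1.1, x.2⟩) fun x y e =>
    Subtype.ext (Subtype.ext (Subtype.mk.inj e))

/-- The elements commuting with `s` modulo a central subgroup. -/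
def cenMod (s : G) (Z : Subgroup G) (hZ : Z ≤ Subgroup.center G) : Subgroup G where
  carrier := {p | ∃ z ∈ Z, s * p = p * s * z}
  one_mem' := ⟨1, one_mem _, by simp⟩
  mul_mem' := by
    rintro a b ⟨z, z1, z2⟩ ⟨y, y1, y2⟩
    refine ⟨y * z, mul_mem y1 z1, ?_⟩
    rw [← mul_assoc, z2, mul_assoc _ z, ← Subgroup.mem_center_iff.mp (hZ z1) b, ← mul_assoc,
      mul_assoc a, y2]
    group
  inv_mem' := by
    rintro a ⟨z, z1, z2⟩
    refine ⟨z⁻¹, inv_mem z1, ?_⟩
    have := Subgroup.mem_center_iff.mp (hZ z1) a⁻¹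
    rw [eq_mul_inv_iff_mul_eq, mul_assoc, this, ← mul_assoc, mul_inv_eq_iff_eq_mul, mul_assoc a⁻¹, z2]
    group

theorem zip_all {α β : Type} {T : List α} {W : List β} {f : α × β → Bool}
    (h : (Nat.ble T.length W.length && (T.zip W).all f) = true) : ∀ t ∈ T, ∃ w, f (t, w) = true := by
  rw [Bool.and_eq_true, Nat.ble_eq] at h
  intro t ht
  obtain ⟨i, hi, rfl⟩ := List.getElem_of_mem ht
  refine ⟨W[i]'(by omega), List.all_eq_true.mp h.2 _ ?_⟩
  rw [← List.getElem_zip (h := by rw [List.length_zip]; omega)]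
  exact List.getElem_mem _

/-- The number of moved points. -/
noncomputable def mvd (img : ℕ → ℕ → ℕ) (n : ℕ) (w : List ℕ) : ℕ :=
  cnt (fun p => !Nat.beq (trF img w p) p) n

theorem mvd_le (ha : IsAct φ ev img n m) (hlt : ∀ g p, p < n → (φ g)⁻¹ p < n) {u w : List ℕ}
    (hu : inR m u = true) (hw : inR m w = true) {k : G} (e : k * evL ev u * k⁻¹ = evL ev w) :
    mvd img n w ≤ mvd img n u := by
  unfold mvd
  rw [cnt_eq, cnt_eq]
  refine Finset.card_le_card_of_injOn (fun p => (φ k)⁻¹ p) (fun p hp => ?_)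
    ((φ k)⁻¹.injective.injOn)
  simp only [Finset.coe_filter, Finset.mem_range, Set.mem_ofPred_eq, nbeq_iff] at hp ⊢
  refine ⟨hlt k p hp.1, fun c => hp.2 ?_⟩
  rw [← (ha.trF hu (hlt k p hp.1)).1] at c
  rw [← (ha.trF hw hp.1).1, ← e, map_mul, map_mul, mul_inv_rev, mul_inv_rev, map_inv, inv_inv,
    Equiv.Perm.mul_apply, Equiv.Perm.mul_apply, c]
  simp

/-- Conjugation by `g` acts on the letters of `A` as the substitution `σ`. -/
def Cj (ev : ℕ → G) (g : G) (A : List ℕ) (σ : List (List ℕ)) : Prop :=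
  ∀ l ∈ A, g⁻¹ * ev l * g = evS ev σ l

variable {g : G} {A : List ℕ} {σ : List (List ℕ)} {inv : ℕ} {chk : List ℕ → Bool}

theorem Cj.word (h : Cj ev g A σ) : ∀ {w : List ℕ}, w.all A.elem = true →
    g⁻¹ * evL ev w * g = evL ev (subst σ w)
  | [], _ => by simp [evL, subst]
  | x :: w, hw => by
    rw [List.all_cons, Bool.and_eq_true, List.elem_iff] at hw
    rw [← evL_subst, evL_cons, evL_cons, evL_subst, ← Cj.word h hw.2, ← h x hw.1]
    group

theorem eq_of_chk (hev : Good ev inv) (ho : ∀ w, chk w = true → evL ev w = 1) {u v : List ℕ}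
    (h : chk (u ++ invW inv v) = true) : evL ev u = evL ev v := by
  have := ho _ h
  rwa [evL_append, evL_invW hev, mul_inv_eq_one] at this

theorem cj_of_chk (hev : Good ev inv) (ho : ∀ w, chk w = true → evL ev w = 1) {c u v : List ℕ}
    (h : chk (invW inv c ++ u ++ c ++ invW inv v) = true) :
    (evL ev c)⁻¹ * evL ev u * evL ev c = evL ev v := by
  rw [← eq_of_chk hev ho h, evL_append, evL_append, evL_invW hev]

theorem Cj.mul (h : Cj ev g A σ) (hev : Good ev inv) (ho : ∀ w, chk w = true → evL ev w = 1)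
    {c : List ℕ} {τ : List (List ℕ)} (hc : (A.all fun l =>
      chk (invW inv c ++ σ.getD l [] ++ c ++ invW inv (τ.getD l []))) = true) :
    Cj ev (g * evL ev c) A τ := fun l hl => by
  rw [evS, ← cj_of_chk hev ho (List.all_eq_true.mp hc l hl), ← evS, ← h l hl]
  group

/-- Conjugation by `a` permutes the listed words as `π` does. -/
def Pm (ev : ℕ → G) (a : G) (El : List (List ℕ)) (π : ℕ → ℕ) : Prop :=
  ∀ v < El.length, a⁻¹ * evL ev (El.getD v []) * a = evL ev (El.getD (π v) []) ∧ π v < El.length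

theorem Cj.pm (h : Cj ev g A σ) (hev : Good ev inv) (ho : ∀ w, chk w = true → evL ev w = 1)
    {El : List (List ℕ)} {c : List ℕ} {π : ℕ → ℕ}
    (hc : ((List.range El.length).all fun v => (El.getD v []).all A.elem && Nat.blt (π v) El.length &&
      chk (invW inv c ++ subst σ (El.getD v []) ++ c ++ invW inv (El.getD (π v) []))) = true) :
    Pm ev (g * evL ev c) El π := fun v hv => by
  have := List.all_eq_true.mp hc v (List.mem_range.mpr hv)
  simp only [Bool.and_eq_true, Nat.blt_eq] at this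
  refine ⟨?_, this.1.2⟩
  rw [← cj_of_chk hev ho this.2, ← h.word this.1.1]
  group

theorem Pm.pow {a : G} {El : List (List ℕ)} {π : ℕ → ℕ} (h : Pm ev a El π) (k : ℕ) :
    Pm ev (a ^ k) El π^[k] := by
  induction k with
  | zero => intro v hv; simpa using hv
  | succ k ih =>
    intro v hv
    rw [Function.iterate_succ_apply', ← (h _ (ih v hv).2).1, ← (ih v hv).1, pow_succ]
    exact ⟨by group, (h _ (ih v hv).2).2⟩

theorem Pm.comm {a : G} {El : List (List ℕ)} {π : ℕ → ℕ} (h : Pm ev a El π) {k : ℕ}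
    (hc : ((List.range El.length).all fun v => Nat.beq (π^[k] v) v) = true) :
    ∀ w ∈ El, Commute (a ^ k) (evL ev w) := fun w hw => by
  obtain ⟨v, hv, rfl⟩ := List.getElem_of_mem hw
  have := ((h.pow k) v hv).1
  rw [Nat.eq_of_beq_eq_true (List.all_eq_true.mp hc v (List.mem_range.mpr hv)),
    List.getD_eq_getElem _ _ hv] at this
  exact commute_of_cj this

/-- A product of two involutions acting without fixed points has the order of its action. -/
theorem Pm.rel {c x : G} (g2 : g * g = 1) (c2 : c * c = 1) (x3 : x ^ 3 = 1) (gx : Commute g x)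
    (cx : Commute c x) {El : List (List ℕ)} {π : ℕ → ℕ} (h : Pm ev (g * c) El π) {k : ℕ}
    (hc : ((List.range El.length).all fun v => Nat.beq (π^[k] v) v) = true)
    (hf : ∀ v < El.length, evL ev (El.getD (π v) []) = evL ev (El.getD v []) →
      evL ev (El.getD v []) = 1)
    (hE : ∀ y, (∀ w ∈ El, Commute y (evL ev w)) →
      ∃ v < El.length, ∃ i : ℕ, y = evL ev (El.getD v []) * x ^ i) : (g * c) ^ k = 1 := by
  obtain ⟨v, hv, i, e⟩ := hE _ (h.comm hc)
  have ax : Commute (g * c) (x ^ i) := (gx.mul_left cx).pow_right i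
  have h1 : evL ev (El.getD v []) = 1 := hf v hv (by
    rw [← (h v hv).1, eq_mul_inv_of_mul_eq e.symm, mul_assoc,
      ← (((Commute.refl _).pow_right k).mul_right ax.inv_right).eq, inv_mul_cancel_left])
  rw [h1, one_mul] at e
  have gi : g⁻¹ = g := inv_eq_of_mul_eq_one_right g2
  have h2 : g⁻¹ * (g * c) ^ k * g = ((g * c) ^ k)⁻¹ := by
    rw [← inv_pow, mul_inv_rev, inv_eq_of_mul_eq_one_right c2, gi]
    have := MulAut.conj_apply g (g * c) ▸ map_pow (MulAut.conj g) (g * c) k
    rw [MulAut.conj_apply, gi, ← mul_assoc g g, g2, one_mul] at this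
    exact this
  rw [e, mul_assoc, ← (gx.pow_right i).eq, inv_mul_cancel_left] at h2
  have h3 : (x ^ i) ^ 3 = 1 := by rw [← pow_mul, mul_comm, pow_mul, x3, one_pow]
  rw [pow_succ, pow_two, mul_eq_one_iff_eq_inv.mpr h2, one_mul] at h3
  rw [e, h3]

end Cfsg.H6
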