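import Cfsg.Agent.H6.LR.P.Main

set_option autoImplicit false
set_option maxRecDepth 100000
set_option Elab.async false

namespace Cfsg.H6.LR

open Carm (L mem_L)

/-- Three-cycles through two fixed points. -/
def c (x : ℕ) : alternatingGroup (Fin 11) :=
  ⟨Equiv.swap 10 (Fin.ofNat 11 (x - 1)) * Equiv.swap 9 (Fin.ofNat 11 (x - 1)) *
    (Equiv.swap 10 (Fin.ofNat 11 (x - 1)) * Equiv.swap 9 (Fin.ofNat 11 (x - 1))), by
    rw [Equiv.Perm.mem_alternatingGroup, map_mul]; exact Int.units_mul_self _⟩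

/-- The table of the three-cycles. -/
def tab (x p : ℕ) : ℕ := if p = x - 1 then 9 else if p = 9 then 10 else if p = 10 then x - 1 else p

theorem lab : Lab (alternatingGroup (Fin 11)).subtype c (Fin.ofNat 11) tab 11 10 :=
  ⟨fun x h1 h2 => by interval_cases x <;> decide +kernel, by decide +kernel⟩

theorem v1 : dvChk tab 11 10 0 [[1]] (L 0) [0,9,10] (unp 2 (nat_lit 0x90000000000)) = true := by
  decide +kernel

theorem v2 : dvChk tab 11 10 1 [[2]] (L 1) [0,1,9,10] (unp 3 (nat_lit 0xa010000090000000100)) = true := by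
  decide +kernel

theorem v3 : dvChk tab 11 10 2 [[3]] (L 2) [0,1,2,9,10] (unp 4 (nat_lit 0xa0200000a010000090000000200)) = true := by
  decide +kernel

theorem v4 : dvChk tab 11 10 3 [[4]] (L 3) [0,1,2,3,9,10] (unp 5 (nat_lit 0xa0300000a0200000a010000090000000300)) = true := by
  decide +kernel

theorem v5 : dvChk tab 11 10 4 [[5]] (L 4) [0,1,2,3,4,9,10] (unp 6 (nat_lit 0xa0400000a0300000a0200000a010000090000000400)) = true := by
  decide +kernel

theorem v6 : dvChk tab 11 10 5 [[6]] (L 5) [0,1,2,3,4,5,9,10] (unp 7 (nat_lit 0xa0500000a0400000a0300000a0200000a010000090000000500)) = true := by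
  decide +kernel

theorem v7 : dvChk tab 11 10 6 [[7]] (L 6) [0,1,2,3,4,5,6,9,10] (unp 8 (nat_lit 0xa0600000a0500000a0400000a0300000a0200000a010000090000000600)) = true := by
  decide +kernel

theorem v8 : dvChk tab 11 10 7 [[8]] (L 7) [0,1,2,3,4,5,6,7,9,10] (unp 9 (nat_lit 0xa0700000a0600000a0500000a0400000a0300000a0200000a010000090000000700)) = true := by
  decide +kernel

theorem v9 : dvChk tab 11 10 8 [[9]] (L 8) [0,1,2,3,4,5,6,7,8,9,10] (unp 10 (nat_lit 0xa0800000a0700000a0600000a0500000a0400000a0300000a0200000a010000090000000800)) = true := by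
  decide +kernel

theorem dv : 19958400 ∣ Nat.card (gen c (L 9)) :=
  Dvd.dvd.trans (by decide +kernel) (lab.dvd v9 (lab.dvd v8 (lab.dvd v7 (lab.dvd v6 (lab.dvd v5 (lab.dvd v4 (lab.dvd v3 (lab.dvd v2 (lab.dvd v1 (one_dvd _))))))))))

def KK : List (List (List ℕ)) := [[], [[]], [[2,3,3], [1,2,3]], [[2,4,4], [1,2,4], [2,1,4,3]], [[2,5,5], [1,2,5], [2,1,5,3], [2,1,5,4]], [[2,6,6], [1,2,6], [2,1,6,3], [2,1,6,4], [2,1,6,5]], [[2,7,7], [1,2,7], [2,1,7,3], [2,1,7,4], [2,1,7,5], [2,1,7,6]], [[2,8,8], [1,2,8], [2,1,8,3], [2,1,8,4], [2,1,8,5], [2,1,8,6], [2,1,8,7]], [[2,9,9], [1,2,9], [2,1,9,3], [2,1,9,4], [2,1,9,5], [2,1,9,6], [2,1,9,7], [2,1,9,8]]]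

theorem ca : Nat.card (alternatingGroup (Fin 11)) = 19958400 := by
  rw [nat_card_alternatingGroup, Nat.card_fin]; rfl

theorem top : gen c (L 9) = ⊤ :=
  Subgroup.eq_top_of_le_card _ (ca ▸ Nat.le_of_dvd Nat.card_pos dv)

theorem hc : ∀ i < 9, c (i + 1) ^ 3 = 1 ∧ ∀ j < i, c (i + 1) * c (j + 1) * (c (i + 1) * c (j + 1)) = 1 ∧
    c (i + 1) * c (j + 1) * evL c ((KK.getD i []).getD j []) =
      evL c ((KK.getD i []).getD j []) * (c 2 * c 1) := by
  decide +kernel

variable {C : Type*} [Group C]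

theorem chart0 {d : C} (d1 : d ≠ 1) (d2 : d * d = 1) (hd : ∀ x, Commute x d)
    (h : IsNonsplitDoubleCover C (alternatingGroup (Fin 11))) :
    ∃ E : P.Grp →* C, Function.Bijective E ∧ E (P.ev 17) = d := by
  obtain ⟨c2, ⟨e⟩, ns⟩ := h
  have dZ : d ∈ Subgroup.center C := Subgroup.mem_center_iff.mpr fun x => (hd x).eq
  let π : C →* alternatingGroup (Fin 11) := e.toMonoidHom.comp (QuotientGroup.mk' _)
  have π1 : ∀ x, π x = 1 ↔ x ∈ Subgroup.center C := fun x =>
    (map_eq_one_iff _ e.injective).trans (QuotientGroup.eq_one_iff x)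
  have D : DC π d := ⟨e.surjective.comp (QuotientGroup.mk'_surjective _), d2, hd, fun x hx => by
    by_contra hh
    rw [not_or] at hh
    obtain ⟨y, _, hy⟩ := (Nat.card_eq_two_iff' (1 : Subgroup.center C)).mp c2
    exact hh.2 (congrArg Subtype.val ((hy ⟨x, (π1 x).mp hx⟩ fun e => hh.1 (congrArg Subtype.val e)).trans
      (hy ⟨d, dZ⟩ fun e => d1 (congrArg Subtype.val e)).symm)), (π1 d).mpr dZ⟩
  have cC : Nat.card C = 39916800 := by rw [D.card d1, ca]
  have : Finite C := Nat.finite_of_card_ne_zero (by rw [cC]; norm_num)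
  choose y hy using fun l => D.surj (c l)
  let w : ℕ → C := fun l => y l ^ 4
  have w1 : ∀ i < 9, π (w (i + 1)) = c (i + 1) := fun i hi => by
    rw [map_pow, hy, pow_succ, (hc i hi).1, one_mul]
  have w3 : ∀ i < 9, w (i + 1) ^ 3 = 1 := fun i hi => by
    have := (D.cenk (z := y (i + 1) ^ 3) (by rw [map_pow, hy, (hc i hi).1])).1
    rw [← pow_mul, show 4 * 3 = (3 + 3) * 2 from rfl, pow_mul, pow_add, this, one_pow]
  have w2 : ∀ i < 9, ∀ j < i, (w (i + 1) * w (j + 1)) ^ 2 = w 2 * w 1 * (w 2 * w 1) :=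
      fun i hi j hj => by
    rw [pow_two]
    refine (D.sq_cj (by rw [map_mul, w1 i hi, w1 j (by omega)]; exact ((hc i hi).2 j hj).1)
      (isConj_iff.mpr ⟨(evL c ((KK.getD i []).getD j []))⁻¹, ?_⟩)).symm
    rw [map_mul, map_mul, w1 i hi, w1 j (by omega), w1 1 (by omega), w1 0 (by omega), inv_inv, mul_assoc,
      ((hc i hi).2 j hj).2, inv_mul_cancel_left]
  have gt : gen (fun l => π (w l)) (L 9) = ⊤ := by
    rw [eq_top_iff, ← top]
    refine gen_le fun v hv => ?_
    obtain ⟨i, hi, rfl⟩ := mem_L.mp hv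
    have := evL_mem_gen (fun l => π (w l)) hv
    rwa [evL_singleton, w1 i hi, ← evL_singleton c] at this
  rcases D.ker (w 2 * w 1 * (w 2 * w 1)) (by
    rw [map_mul, map_mul, w1 1 (by omega), w1 0 (by omega)]
    exact ((hc 1 (by omega)).2 0 (by omega)).1) with h | h
  · have u := carm_ub w fun i hi => ⟨w3 i hi, fun j hj => (w2 i hi j hj).trans h⟩
    have sup : Subgroup.center C ⊔ gen w (L 9) = ⊤ := eq_top_iff.mpr fun x _ =>
      D.mem_of (xs := w) (Ws := L 9) (Subgroup.mem_sup_left dZ)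
        (fun v hv => Subgroup.mem_sup_right (evL_mem_gen w hv)) (gt ▸ Subgroup.mem_top _)
    have nd : d ∉ gen w (L 9) := fun c => by
      have : gen w (L 9) = ⊤ := eq_top_iff.mpr fun x _ =>
        D.mem_of (xs := w) (Ws := L 9) c (fun v hv => evL_mem_gen w hv) (gt ▸ Subgroup.mem_top _)
      have u2 := u.2
      rw [this, Subgroup.card_top, cC] at u2
      omega
    refine absurd (Subgroup.isComplement'_of_disjoint_and_mul_eq_univ ?_ ?_) (ns (gen w (L 9)))
    · refine Subgroup.disjoint_def.mpr fun {x} h1 h2 => ?_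
      exact (D.ker x ((π1 x).mpr h1)).resolve_right fun e => nd (e ▸ h2)
    · rw [← Subgroup.normal_mul, sup, Subgroup.coe_top]
  · let z : ℕ → C := fun l => if l = 17 then d else if 20 ≤ l ∧ l < 38 then
      (if l % 2 = 0 then w (l / 2 - 9) else (w (l / 2 - 9))⁻¹) else 1
    have di : d⁻¹ = d := inv_eq_of_mul_eq_one_right d2
    have gz : Good z P.inv0 := good_of_rels (m := 38) rfl (fun l hl => by
      simp only [z]; rw [if_neg (by omega), if_neg (by omega)]) (by decide +kernel) fun r hr => by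
        obtain ⟨l, hl, rfl⟩ := List.mem_map.mp hr
        rw [List.mem_range] at hl
        rw [evL_cons, evL_singleton]
        interval_cases l <;> first | exact one_mul _ | exact d2 | exact inv_mul_cancel _ | exact mul_inv_cancel _
    have zz : ∀ i < 9, z (20 + 2 * i) = w (i + 1) := fun i hi => by interval_cases i <;> rfl
    have rz : Rels z P.R0 := fun r hr => by
      have : r = [17, 17] ∨ ∃ i < 9, r = rp 3 [20 + 2 * i] ∨ r = [20 + 2 * i, 17] ++ invW P.inv0 [17, 20 + 2 * i] ∨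
          ∃ j < i, r = rp 2 [20 + 2 * i, 20 + 2 * j] ++ [17] := by
        revert r; decide +kernel
      rcases this with rfl | ⟨i, hi, rfl | rfl | ⟨j, hj, rfl⟩⟩
      · rw [evL_cons, evL_singleton]; exact d2
      · rw [evL_rp, evL_singleton, zz i hi, w3 i hi]
      · rw [evL_append, evL_invW gz, mul_inv_eq_one]
        simp only [evL_cons, evL_nil, mul_one]
        exact (hd _).eq
      · rw [evL_append, evL_rp, evL_cons, evL_singleton, evL_singleton, zz i hi, zz j (by omega),
          w2 i hi j hj, h]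
        exact d2
    obtain ⟨E, hE⟩ := pg_lift gz rz
    have e17 : E (P.ev 17) = d := by rw [P.ev17]; exact hE 17
    have sj : Function.Surjective E := fun x =>
      D.mem_of (xs := w) (Ws := L 9) (S := E.range) ⟨_, e17⟩ (fun v hv => by
        obtain ⟨i, hi, rfl⟩ := mem_L.mp hv
        rw [evL_singleton, ← zz i hi]
        exact ⟨_, hE _⟩) (gt ▸ Subgroup.mem_top _)
    exact ⟨E, sj.bijective_of_nat_card_le (by rw [cC]; exact P.main.1.le), e17⟩

variable {G : Type*} [Group G]

/-- A chart of the centraliser. -/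
structure Ch (E : P.Grp →* G) (t : G) : Prop where
  inj : Function.Injective E
  et : E (P.ev 17) = t
  cen : ∀ y, Commute y t → ∃ p, E p = y

theorem chart {t : G} (ht : orderOf t = 2)
    (h : IsNonsplitDoubleCover (Subgroup.centralizer ({t} : Set G)) (alternatingGroup (Fin 11))) :
    ∃ E, Ch E t := by
  have t2 : t * t = 1 := by rw [← pow_two, ← ht, pow_orderOf_eq_one]
  have t1 : t ≠ 1 := fun e => by rw [e, orderOf_one] at ht; omega
  obtain ⟨E, h1, h2⟩ := chart0 (d := ⟨t, Subgroup.mem_centralizer_singleton_iff.mpr rfl⟩)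
    (fun e => t1 (congrArg Subtype.val e)) (Subtype.ext t2)
    (fun x => Subtype.ext (Subgroup.mem_centralizer_singleton_iff.mp x.2)) h
  refine ⟨(Subgroup.subtype _).comp E, Subtype.val_injective.comp h1.1, congrArg Subtype.val h2,
    fun y hy => ?_⟩
  obtain ⟨p, hp⟩ := h1.2 ⟨y, Subgroup.mem_centralizer_singleton_iff.mpr hy⟩
  exact ⟨p, congrArg Subtype.val hp⟩

end Cfsg.H6.LR
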