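import Cfsg.Agent.H6.LR.PA
import Cfsg.Agent.H5.ZStar

set_option autoImplicit false
set_option maxRecDepth 100000
set_option Elab.async false

namespace Cfsg.H6.LR

open scoped commutatorElement

variable {G : Type*} [Group G] {E : P.Grp →* G} {t g : G}

/-- The letters through a chart. -/
def ε (E : P.Grp →* G) (l : ℕ) : G := E (P.ev l)

/-- The test for trivial words. -/
noncomputable abbrev ck : List ℕ → Bool := fixB P.img 38 P.bs

/-- The test for nontrivial words. -/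
noncomputable abbrev mv : List ℕ → Bool := movB P.img 5040 38 P.bs

theorem ε_evL (E : P.Grp →* G) (w : List ℕ) : evL (ε E) w = E (evL P.ev w) := (map_evL _ _ _).symm

theorem gd (E : P.Grp →* G) : Good (ε E) P.inv := P.hev.map E

theorem ho (E : P.Grp →* G) (w : List ℕ) (h : ck w = true) : evL (ε E) w = 1 := by
  rw [ε_evL, P.ora w h, map_one]

theorem Ch.hm (C : Ch E t) {w : List ℕ} (h : mv w = true) : evL (ε E) w ≠ 1 := fun e =>
  P.hφ.mov h (C.inj (by rw [← ε_evL, e, map_one]))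

theorem Ch.ne (C : Ch E t) {u v : List ℕ} (h : mv (u ++ invW P.inv v) = true) :
    evL (ε E) u ≠ evL (ε E) v := fun e =>
  C.hm h (by rw [evL_append, evL_invW (gd E), e, mul_inv_cancel])

theorem Ch.nc (C : Ch E t) {u v : List ℕ} (h : mv (u ++ v ++ invW P.inv (v ++ u)) = true) :
    ¬ Commute (evL (ε E) u) (evL (ε E) v) := fun e =>
  C.ne h (by rw [evL_append, evL_append, e.eq])

theorem cT (E : P.Grp →* G) (p : P.Grp) : Commute (E p) (ε E 17) :=
  (show Commute p (P.ev 17) from Subgroup.mem_center_iff.mp P.cen p).map E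

theorem cT' (E : P.Grp →* G) (l : ℕ) : Commute (ε E l) (ε E 17) := cT E _

theorem cw (E : P.Grp →* G) {u v : List ℕ} (h : ck (u ++ v ++ invW P.inv (v ++ u)) = true) :
    Commute (evL (ε E) u) (evL (ε E) v) := by
  rw [ε_evL, ε_evL]; exact (P.comm_of h).map E

theorem cl (E : P.Grp →* G) {a b : ℕ} (h : ck ([a] ++ [b] ++ invW P.inv ([b] ++ [a])) = true) :
    Commute (ε E a) (ε E b) := (P.cm h).map E

theorem cwl (E : P.Grp →* G) {u : List ℕ} {b : ℕ} (h : ck (u ++ [b] ++ invW P.inv ([b] ++ u)) = true) :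
    Commute (evL (ε E) u) (ε E b) := evL_singleton (ε E) b ▸ cw E h

theorem sq (E : P.Grp →* G) {a : ℕ} (h : ck [a, a] = true) : ε E a * ε E a = 1 := by
  have := ho E _ h
  rwa [evL_cons, evL_singleton] at this

theorem εx3 (E : P.Grp →* G) : ε E 9 ^ 3 = 1 := by rw [ε, ← map_pow, P.x3, map_one]

theorem Ch.l1 (C : Ch E t) {a : ℕ} (h : mv [a] = true) : ε E a ≠ 1 := evL_singleton (ε E) a ▸ C.hm h

theorem Ch.enum (C : Ch E t) {y : G} (h1 : Commute y (ε E 17)) (h2 : Commute y (ε E 18)) :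
    ∃ w ∈ P.L0, evL (ε E) w = y := by
  obtain ⟨p, rfl⟩ := C.cen y (C.et ▸ h1)
  obtain ⟨w, hw, rfl⟩ := P.enum0 (p := p) (C.inj (by rw [map_mul, map_mul]; exact h2.eq))
  exact ⟨w, hw, ε_evL E w⟩

theorem Ch.invol (C : Ch E t) {y : G} (h : Commute y t) (h2 : y * y = 1) (h1 : y ≠ 1) :
    y = t ∨ ∃ k, (E k)⁻¹ * ε E 18 * E k = y := by
  obtain ⟨p, rfl⟩ := C.cen y h
  refine (P.invol (p := p) (C.inj (by rw [map_mul, h2, map_one])) fun e => h1 (by rw [e, map_one])).imp
    (fun e => by rw [e, C.et]) fun ⟨k, e⟩ => ⟨k, by rw [← e, map_mul, map_mul, map_inv, ε]⟩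

/-- The element swaps the two involutions. -/
def Sw (E : P.Grp →* G) (g : G) : Prop :=
  g⁻¹ * ε E 17 * g = ε E 18 ∧ g⁻¹ * ε E 18 * g = ε E 17

theorem exists_sw [Finite G] [IsSimpleGroup G] (C : Ch E t) (ht : orderOf t = 2) : ∃ g, Sw E g := by
  have t2 : t * t = 1 := by rw [← pow_two, ← ht, pow_orderOf_eq_one]
  have t1 : t ≠ 1 := fun e => by rw [e, orderOf_one] at ht; omega
  have e17 : ε E 17 = t := C.et
  have n1 : ∀ a : G, a * t * a⁻¹ ≠ 1 := fun a e => t1 (by
    rw [show t = a⁻¹ * (a * t * a⁻¹) * a by group, e]; group)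
  have n2 : ∀ a : G, a * t * a⁻¹ * (a * t * a⁻¹) = 1 := fun a => by
    have := sq_cj t2 a⁻¹
    rwa [inv_inv] at this
  obtain ⟨a, ha, hn⟩ := H5.exists_commute_conj_ne ht fun hz => by
    rcases IsSimpleGroup.eq_bot_or_eq_top_of_normal (Subgroup.center G) inferInstance with h | h
    · exact t1 (Subgroup.mem_bot.mp (h ▸ hz))
    · exact C.nc (u := [1]) (v := [3]) (by decide +kernel)
        (Subgroup.mem_center_iff.mp (h ▸ Subgroup.mem_top _) _)
  obtain ⟨k, hk⟩ := (C.invol ha.symm (n2 a) (n1 a)).resolve_left hn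
  have e1 : (E k * a)⁻¹⁻¹ * t * (E k * a)⁻¹ = ε E 18 := by
    rw [show (E k * a)⁻¹⁻¹ * t * (E k * a)⁻¹ = E k * (a * t * a⁻¹) * (E k)⁻¹ by group, ← hk]; group
  generalize (E k * a)⁻¹ = b at e1
  have c1 : Commute (b * t * b⁻¹) t := by
    have := commute_cj (e17 ▸ cT E (P.ev 18) : Commute (ε E 18) t).symm b⁻¹
    rwa [← e1, inv_inv, show b * (b⁻¹ * t * b) * b⁻¹ = t by group] at this
  obtain ⟨c, hc⟩ := (C.invol c1 (n2 b) (n1 b)).resolve_left fun e =>
    C.ne (u := [18]) (v := [17]) (by decide +kernel) (by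
      rw [evL_singleton, evL_singleton, e17, ← e1]
      conv_lhs => rw [← e]
      group)
  refine ⟨E c * b, ?_, ?_⟩
  · rw [← e1, mul_inv_rev, mul_assoc, mul_assoc, ← mul_assoc (ε E 17), ← (cT E c).eq, e17]; group
  · rw [show (E c * b)⁻¹ * ε E 18 * (E c * b) = b⁻¹ * ((E c)⁻¹ * ε E 18 * E c) * b by group, hc, e17]
    group

theorem Sw.inv (h : Sw E g) : Sw E g⁻¹ := ⟨by rw [← h.2]; group, by rw [← h.1]; group⟩

theorem Sw.img (h : Sw E g) (C : Ch E t) {y : G} (h1 : Commute y (ε E 17))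
    (h2 : Commute y (ε E 18)) : ∃ w ∈ P.L0, evL (ε E) w = g⁻¹ * y * g :=
  C.enum (h.2 ▸ commute_cj h2 g) (h.1 ▸ commute_cj h1 g)

theorem cj_mul {a b k : G} (h : g⁻¹ * a * g = b) (c : Commute k b) : (g * k)⁻¹ * a * (g * k) = b := by
  rw [show (g * k)⁻¹ * a * (g * k) = k⁻¹ * (g⁻¹ * a * g) * k by group, h, mul_assoc, ← c.eq,
    inv_mul_cancel_left]

theorem Sw.mul (h : Sw E g) {k : G} (h1 : Commute k (ε E 17)) (h2 : Commute k (ε E 18)) :
    Sw E (g * k) := ⟨cj_mul h.1 h2, cj_mul h.2 h1⟩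

theorem cj_ne {a : G} (h : a ≠ 1) (g : G) : g⁻¹ * a * g ≠ 1 := fun e => h (by
  rw [show a = g * (g⁻¹ * a * g) * g⁻¹ by group, e]; group)

theorem cj_pow (a g : G) (k : ℕ) : (g⁻¹ * a * g) ^ k = g⁻¹ * a ^ k * g := by
  have := conj_pow (i := k) (a := g⁻¹) (b := a)
  rwa [inv_inv] at this

theorem st1 (C : Ch E t) (h : Sw E g) : ∃ g, Sw E g ∧ g⁻¹ * ε E 9 * g = ε E 9 := by
  obtain ⟨w, hw, e⟩ := h.img C (cT' E 9) (cl E (a := 9) (by decide +kernel))
  have e' := e
  rw [ε_evL] at e'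
  rcases P.three hw (C.inj (by rw [map_pow, e', cj_pow, εx3, map_one]; group))
    (fun c => cj_ne (C.l1 (a := 9) (by decide +kernel)) g (by rw [← e', c, map_one])) with
    c | c | ⟨_, _, n, hn, c1, c2⟩
  · exact ⟨g, h, by rw [← e', c, ε]⟩
  · refine ⟨g * ε E 19, h.mul (cT E _) (cl E (by decide +kernel)), ?_⟩
    rw [show (g * ε E 19)⁻¹ * ε E 9 * (g * ε E 19) = (ε E 19)⁻¹ * (g⁻¹ * ε E 9 * g) * ε E 19 by group,
      ← e', c, ε, ε, ← map_inv, ← map_mul, ← map_mul, show (P.ev 19)⁻¹ * (P.ev 9)⁻¹ * P.ev 19 =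
        ((P.ev 19)⁻¹ * P.ev 9 * P.ev 19)⁻¹ by group, P.mx, inv_inv]
  · exfalso
    have n2 : ε E n * ε E n = 1 := sq E (by clear * - hn; revert n; decide +kernel)
    obtain ⟨v, _, ev⟩ := h.inv.img C (cT E (P.ev n)) (cl E (by clear * - hn; revert n; decide +kernel))
    rw [ε_evL] at ev
    have hv : Commute (evL P.ev v) (P.ev 18) := C.inj (by
      rw [map_mul, map_mul, ev]
      exact (h.inv.1 ▸ commute_cj (cT E (P.ev n)) g⁻¹).eq)
    have key : E (P.ev n * evL P.ev w * P.ev n) =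
        g⁻¹ * E ((evL P.ev v)⁻¹ * P.ev 9 * evL P.ev v) * g := by
      rw [map_mul, map_mul, map_mul, map_mul, map_inv, ev, e']
      conv_lhs => rw [show E (P.ev n) = (E (P.ev n))⁻¹ from (inv_eq_of_mul_eq_one_right n2).symm]
      conv_lhs => rw [show (E (P.ev n))⁻¹ * (g⁻¹ * ε E 9 * g) * (E (P.ev n))⁻¹ =
        (E (P.ev n))⁻¹ * (g⁻¹ * ε E 9 * g) * E (P.ev n) from
        congrArg _ (inv_eq_of_mul_eq_one_right n2)]
      unfold ε
      group
    rcases P.normx hv with d | d <;> rw [d] at key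
    · exact c1 (C.inj (by rw [key, e']; rfl))
    · exact c2 (C.inj (by rw [key, map_inv, map_inv, e']; unfold ε; group))

def Bs : List (List ℕ) := [[3], [3,9], [3,9,9], [4], [4,9], [4,9,9]]

def Cs : List (List ℕ) := [[1], [4,1,3], [3,1,4], [2], [4,2,3], [3,2,4]]

def Qs : List (List ℕ) := [[], [2], [4,2,3], [3,2,4], [1], [1,2], [1,4,2,3], [1,3,2,4], [4,1,3], [4,1,3,2], [4,1,3,4,2,3], [4,1,3,3,2,4], [3,1,4], [3,1,4,2], [3,1,4,4,2,3], [3,1,4,3,2,4]]

theorem st2 (C : Ch E t) (h : Sw E g) (hx : g⁻¹ * ε E 9 * g = ε E 9) :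
    ∃ g, Sw E g ∧ g⁻¹ * ε E 9 * g = ε E 9 ∧ ∃ B ∈ Bs, g⁻¹ * ε E 3 * g = evL (ε E) B := by
  obtain ⟨w, hw, e⟩ := h.img C (cT' E 3) (cl E (a := 3) (by decide +kernel))
  have k := List.all_eq_true.mp (show (P.L0.all fun w => mv (rp 3 w) ||
    ([0, 1, 2].any fun i => ck (w ++ rp i [9])) || Qs.any fun q => Bs.any fun B =>
      ck (invW P.inv q ++ w ++ q ++ invW P.inv B)) = true by decide +kernel) w hw
  simp only [Bool.or_eq_true, List.any_eq_true] at k
  rcases k with (c | ⟨i, hi, c⟩) | ⟨q, hq, B, hB, c⟩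
  · refine absurd ?_ (C.hm c)
    rw [evL_rp, e, cj_pow, ← evL_singleton (ε E) 3, ← evL_rp, ho E _ (by decide +kernel)]
    group
  · refine absurd ?_ (cj_ne (C.hm (w := [3] ++ rp i [9]) (by clear * - hi; revert i; decide +kernel)) g)
    have := ho E _ c
    rw [evL_append, evL_rp, evL_singleton, e, ← hx, cj_pow] at this
    rw [← this, evL_append, evL_rp, evL_singleton, evL_singleton]
    group
  · have c1 : ∀ l ∈ [9, 18], Commute (evL (ε E) q) (ε E l) := fun l hl =>
      cwl E (by clear * - hl hq; revert l q; decide +kernel)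
    refine ⟨g * evL (ε E) q, h.mul (ε_evL E q ▸ cT E _) (c1 18 (by simp)), cj_mul hx (c1 9 (by simp)),
      B, hB, ?_⟩
    rw [← cj_of_chk (gd E) (ho E) c, e]
    group

theorem st3 (C : Ch E t) (h : Sw E g) (hx : g⁻¹ * ε E 9 * g = ε E 9) {B : List ℕ} (hB : B ∈ Bs)
    (hb : g⁻¹ * ε E 3 * g = evL (ε E) B) {n : ℕ} (hn : n ∈ [1, 2]) :
    ∃ c ∈ Cs, g⁻¹ * ε E n * g = evL (ε E) c := by
  obtain ⟨w, hw, e⟩ := h.img C (cT' E n) (cl E (by clear * - hn; revert n; decide +kernel))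
  have k := List.all_eq_true.mp (show (P.L0.all fun w => mv (w ++ w) || ck w ||
    mv (w ++ [9] ++ invW P.inv ([9] ++ w)) || (Bs.all fun B => mv (rp 3 (w ++ B))) ||
      Cs.any fun c => ck (w ++ invW P.inv c)) = true by decide +kernel) w hw
  simp only [Bool.or_eq_true, List.any_eq_true, List.all_eq_true] at k
  rcases k with (((c | c) | c) | c) | ⟨c, hc, k⟩
  · exact absurd (by rw [evL_append, e, sq_cj (sq E (by clear * - hn; revert n; decide +kernel))]) (C.hm c)
  · exact absurd (e ▸ ho E _ c) (cj_ne (C.l1 (by clear * - hn; revert n; decide +kernel)) g)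
  · refine absurd ?_ (C.nc c)
    rw [e, evL_singleton, ← hx]
    exact commute_cj (cl E (by clear * - hn; revert n; decide +kernel)) g
  · refine absurd ?_ (C.hm (c B hB))
    have := ho E (rp 3 [n, 3]) (by clear * - hn; revert n; decide +kernel)
    rw [evL_rp, evL_cons, evL_singleton] at this
    rw [evL_rp, evL_append, e, ← hb, show g⁻¹ * ε E n * g * (g⁻¹ * ε E 3 * g) =
      g⁻¹ * (ε E n * ε E 3) * g by group, cj_pow, this]
    group
  · exact ⟨c, hc, by rw [← e, eq_of_chk (gd E) (ho E) k]⟩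

def AL : List ℕ := [1, 2, 3, 4, 9, 10, 17, 18]

/-- The substitution with given images of the three generators. -/
def sgm (e f B : List ℕ) : List (List ℕ) :=
  [[], e, f, B, invW P.inv B, [], [], [], [], [9], [10], [], [], [], [], [], [], [18], [17]]

/-- The good substitutions. -/
def sG (j : ℕ) : List (List ℕ) := sgm [1] [2] (4 :: rp j [9])

/-- The substitutions that do not occur. -/
def sF (j : ℕ) : List (List ℕ) := sgm [2] [1] (3 :: rp j [9])

theorem st4 (C : Ch E t) (h : Sw E g) :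
    ∃ g, ∃ j ∈ [0, 1, 2], Cj (ε E) g AL (sG j) ∨ Cj (ε E) g AL (sF j) := by
  obtain ⟨g, h, hx⟩ := st1 C h
  obtain ⟨g, h, hx, B, hB, hb⟩ := st2 C h hx
  obtain ⟨e, he, e1⟩ := st3 C h hx hB hb (n := 1) (by simp)
  obtain ⟨f, hf, e2⟩ := st3 C h hx hB hb (n := 2) (by simp)
  have cj : Cj (ε E) g AL (sgm e f B) := by
    intro l hl
    simp only [AL, List.mem_cons, List.not_mem_nil, or_false] at hl
    rcases hl with rfl | rfl | rfl | rfl | rfl | rfl | rfl | rfl
    · exact e1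
    · exact e2
    · exact hb
    · show _ = evL _ (invW _ B)
      rw [evL_invW (gd E), ← hb, show ε E 4 = (ε E 3)⁻¹ from (gd E).inv 3]; group
    · exact hx.trans (evL_singleton _ _).symm
    · show _ = evL _ [10]
      rw [evL_singleton, show ε E 10 = (ε E 9)⁻¹ from (gd E).inv 9]
      conv_rhs => rw [← hx]
      group
    · exact h.1.trans (evL_singleton _ _).symm
    · exact h.2.trans (evL_singleton _ _).symm
  have k := List.all_eq_true.mp (List.all_eq_true.mp (List.all_eq_true.mp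
    (show (Bs.all fun B => Cs.all fun e => Cs.all fun f =>
      ([[1, 2, 1, 2, 17, 18], [4, 1, 3, 2, 4, 1, 3, 2, 17]].any fun r =>
        r.all AL.elem && ck r && mv (subst (sgm e f B) r)) ||
      [0, 1, 2].any fun i => [0, 1, 2].any fun j =>
        (AL.all fun l => ck (invW P.inv (rp i [3]) ++ (sgm e f B).getD l [] ++ rp i [3] ++
          invW P.inv ((sG j).getD l []))) ||
        AL.all fun l => ck (invW P.inv (rp i [3]) ++ (sgm e f B).getD l [] ++ rp i [3] ++
          invW P.inv ((sF j).getD l []))) = true by decide +kernel) B hB) e he) f hf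
  rw [Bool.or_eq_true, List.any_eq_true, List.any_eq_true] at k
  rcases k with ⟨r, _, k⟩ | ⟨i, _, k⟩
  · rw [Bool.and_eq_true, Bool.and_eq_true] at k
    exact absurd (by rw [← cj.word k.1.1, ho E _ k.1.2]; group) (C.hm k.2)
  · obtain ⟨j, hj, k⟩ := List.any_eq_true.mp k
    rw [Bool.or_eq_true] at k
    exact ⟨_, j, hj, k.imp (cj.mul (gd E) (ho E)) (cj.mul (gd E) (ho E))⟩

/-- The sixteen elements of an elementary subgroup. -/
def El (n : ℕ) : List (List ℕ) :=
  [[], [17], [18], [17, 18], [n], [17, n], [18, n], [17, 18, n], [4, n, 3], [17, 4, n, 3],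
    [18, 4, n, 3], [17, 18, 4, n, 3], [n, 4, n, 3], [17, n, 4, n, 3], [18, n, 4, n, 3],
    [17, 18, n, 4, n, 3]]

theorem Ch.cenE (C : Ch E t) {n : ℕ} (hn : n ∈ [1, 2]) (y : G)
    (h : ∀ w ∈ El n, Commute y (evL (ε E) w)) :
    ∃ v < (El n).length, ∃ i : ℕ, y = evL (ε E) ((El n).getD v []) * ε E 9 ^ i := by
  obtain ⟨w, hw, rfl⟩ := C.enum (evL_singleton (ε E) 17 ▸ h _ (by simp [El]))
    (evL_singleton (ε E) 18 ▸ h _ (by simp [El]))
  have k := List.all_eq_true.mp (List.all_eq_true.mp (show ([1, 2].all fun n => P.L0.all fun w =>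
    mv (w ++ [n] ++ invW P.inv ([n] ++ w)) || mv (w ++ [4, n, 3] ++ invW P.inv ([4, n, 3] ++ w)) ||
    (List.range 16).any fun v => [0, 1, 2].any fun i =>
      ck (w ++ invW P.inv ((El n).getD v [] ++ rp i [9]))) = true by decide +kernel) n hn) w hw
  simp only [Bool.or_eq_true, List.any_eq_true, List.mem_range] at k
  rcases k with (c | c) | ⟨v, hv, i, _, c⟩
  · exact absurd (h _ (by simp [El])) (C.nc c)
  · exact absurd (h _ (by simp [El])) (C.nc c)
  · exact ⟨v, hv, i, by rw [eq_of_chk (gd E) (ho E) c, evL_append, evL_rp, evL_singleton]⟩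

theorem not_fake (C : Ch E t) {j : ℕ} (hj : j ∈ [0, 1, 2]) (h : Cj (ε E) g AL (sF j)) : False := by
  have p1 := h.pm (gd E) (ho E) (El := El 1) (c := [19, 5]) (π := (fun v => [0,3,1,2,8,11,9,10,12,15,13,14,4,7,5,6].getD v 0))
    (by clear * - hj; revert j; decide +kernel)
  have p2 := h.pm (gd E) (ho E) (El := [[9], [10]]) (c := [19, 5]) (π := fun v => 1 - v)
    (by clear * - hj; revert j; decide +kernel)
  obtain ⟨v, hv, i, e⟩ := C.cenE (n := 1) (by simp) _ (p1.comm (k := 3) (by decide +kernel))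
  have e2 := ((p2.pow 3) 0 (by simp)).1
  have c : Commute ((g * evL (ε E) [19, 5]) ^ 3) (ε E 9) := by
    rw [e]
    exact (cwl E (by clear * - hv; revert v; decide +kernel)).mul_left ((Commute.refl _).pow_left i)
  refine C.ne (u := [9]) (v := [10]) (by decide +kernel) (Eq.trans ?_ e2)
  show _ = _ * evL _ [9] * _
  rw [evL_singleton, mul_assoc, ← c.eq, inv_mul_cancel_left]

def Z12 : List (List ℕ) := [[], [17], [9,18], [9,17,18], [10,18], [10,17,18], [10], [10,17], [9,17], [9], [17,18], [18]]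

theorem st5 (C : Ch E t) {j : ℕ} (hj : j ∈ [0, 1, 2]) (h : Cj (ε E) g AL (sG j)) :
    ∃ g, g * g = 1 ∧ Cj (ε E) g AL (sG j) := by
  have c2 : ∀ l ∈ AL, Commute (g * g) (evL (ε E) [l]) := fun l hl => commute_of_cj (by
    rw [show (g * g)⁻¹ * evL (ε E) [l] * (g * g) = g⁻¹ * (g⁻¹ * evL (ε E) [l] * g) * g by group,
      h.word (by clear * - hl; revert l; decide +kernel), h.word (by clear * - hl hj; revert l j; decide +kernel)]
    exact eq_of_chk (gd E) (ho E) (by clear * - hl hj; revert l j; decide +kernel))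
  obtain ⟨w, hw, e⟩ := C.enum (evL_singleton (ε E) 17 ▸ c2 _ (by decide))
    (evL_singleton (ε E) 18 ▸ c2 _ (by decide))
  have k := List.all_eq_true.mp (show (P.L0.all fun w =>
    ([1, 2, 3].any fun n => mv (w ++ [n] ++ invW P.inv ([n] ++ w))) ||
    Z12.any fun z => ck (w ++ invW P.inv z)) = true by decide +kernel) w hw
  simp only [Bool.or_eq_true, List.any_eq_true] at k
  rcases k with ⟨n, hn, c⟩ | ⟨z, hz, c⟩
  · exact absurd (e ▸ c2 n (by clear * - hn; revert n; decide)) (C.nc c)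
  have ez : evL (ε E) z = g * g := by rw [← e, eq_of_chk (gd E) (ho E) c]
  have k := List.all_eq_true.mp (List.all_eq_true.mp (show ([0, 1, 2].all fun j => Z12.all fun z =>
    (z.all AL.elem && mv (subst (sG j) z ++ invW P.inv z)) || Z12.any fun c => c.all AL.elem &&
      ck (z ++ subst (sG j) c ++ c) && AL.all fun l => ck (invW P.inv c ++ (sG j).getD l [] ++ c ++
        invW P.inv ((sG j).getD l []))) = true by decide +kernel) j hj) z hz
  rw [Bool.or_eq_true, Bool.and_eq_true, List.any_eq_true] at k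
  rcases k with k | ⟨c, _, k⟩
  · exact absurd (by rw [← h.word k.1, ez]; group) (C.ne k.2)
  · rw [Bool.and_eq_true, Bool.and_eq_true] at k
    refine ⟨_, ?_, h.mul (gd E) (ho E) k.2⟩
    rw [← ho E _ k.1.2, evL_append, evL_append, ← h.word k.1.1, ez]
    group

theorem frame [Finite G] [IsSimpleGroup G] (ht : orderOf t = 2)
    (h : IsNonsplitDoubleCover (Subgroup.centralizer ({t} : Set G)) (alternatingGroup (Fin 11))) :
    ∃ E g, Ch E t ∧ g * g = 1 ∧ ∃ j ∈ [0, 1], Cj (ε E) g AL (sG j) := by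
  obtain ⟨E, C⟩ := chart ht h
  obtain ⟨g, h⟩ := exists_sw C ht
  obtain ⟨g, j, hj, h⟩ := st4 C h
  obtain ⟨g, g2, h⟩ := st5 C hj (h.resolve_right (not_fake C hj))
  simp only [List.mem_cons, List.not_mem_nil, or_false] at hj
  rcases hj with rfl | rfl | rfl
  · exact ⟨E, g, C, g2, 0, by simp, h⟩
  · exact ⟨E, g, C, g2, 1, by simp, h⟩
  obtain ⟨σ, s1, s9, s10, sf⟩ := P.aut
  have f : ∀ l ∈ [1, 2, 3, 4, 17, 18], ε (E.comp σ) l = ε E l := fun l hl => congrArg E (sf l hl)
  have f9 : ε (E.comp σ) 9 = ε E 10 := congrArg E s9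
  have f10 : ε (E.comp σ) 10 = ε E 9 := congrArg E s10
  refine ⟨E.comp σ, g, ⟨C.inj.comp s1.1, (f 17 (by simp)).trans C.et, fun y hy => ?_⟩, g2, 1, by simp,
    fun l hl => ?_⟩
  · obtain ⟨p, rfl⟩ := C.cen y hy
    obtain ⟨p, rfl⟩ := s1.2 p
    exact ⟨p, rfl⟩
  have a := eq_of_chk (gd E) (ho E) (u := [4, 9, 9]) (v := [4, 10]) (by decide +kernel)
  have b := eq_of_chk (gd E) (ho E) (u := [10, 10, 3]) (v := [9, 3]) (by decide +kernel)
  simp only [AL, List.mem_cons, List.not_mem_nil, or_false] at hl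
  rcases hl with rfl | rfl | rfl | rfl | rfl | rfl | rfl | rfl
  · rw [f _ (by simp), h 1 (by decide)]; exact evL_congr fun x hx => (f x (by clear * - hx; revert x; decide)).symm
  · rw [f _ (by simp), h 2 (by decide)]; exact evL_congr fun x hx => (f x (by clear * - hx; revert x; decide)).symm
  · rw [f _ (by simp), h 3 (by decide)]
    show evL _ [4, 9, 9] = evL _ [4, 9]
    rw [a, evL_cons, evL_cons (x := 4), evL_singleton, evL_singleton, f9, f 4 (by simp)]
  · rw [f _ (by simp), h 4 (by decide)]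
    show evL _ [10, 10, 3] = evL _ [10, 3]
    rw [b, evL_cons, evL_cons (x := 10), evL_singleton, evL_singleton, f10, f 3 (by simp)]
  · rw [f9, h 10 (by decide)]
    exact (evL_singleton _ _).trans (f9.symm.trans (evL_singleton _ _).symm)
  · rw [f10, h 9 (by decide)]
    exact (evL_singleton _ _).trans (f10.symm.trans (evL_singleton _ _).symm)
  · rw [f _ (by simp), h 17 (by decide)]; exact evL_congr fun x hx => (f x (by clear * - hx; revert x; decide)).symm
  · rw [f _ (by simp), h 18 (by decide)]; exact evL_congr fun x hx => (f x (by clear * - hx; revert x; decide)).symm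

end Cfsg.H6.LR
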