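import Cfsg.Agent.H6.LR.PC
import Cfsg.Agent.H6.LR.H.J
import Cfsg.Agent.H6.LR.S.Main

set_option autoImplicit false
set_option maxRecDepth 100000
set_option Elab.async false

namespace Cfsg.H6.LR

open scoped commutatorElement

variable {G : Type*} [Group G] {E : P.Grp →* G} {t g : G}

/-- The letters of the chart together with the swapping element. -/
def e1 (E : P.Grp →* G) (g : G) (l : ℕ) : G := if l = 38 then g else ε E l

def invG : ℕ := 1243119671835161298093182213870388852775678312027510988451448983476080937229194792112790569216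

theorem e1_evL {w : List ℕ} (h : inR 38 w = true) : evL (e1 E g) w = evL (ε E) w :=
  evL_congr fun x hx => if_neg (by have := inR_spec h x hx; omega)

theorem gd1 (g2 : g * g = 1) : Good (e1 E g) invG :=
  good_of_rels (m := 39) (gd E).zero (fun l hl => by
    rw [e1, if_neg (by omega)]; exact (gd E).eq_one (m := 38) (by decide +kernel) (by omega))
    (by decide +kernel) fun r hr => by
      obtain ⟨l, hl, rfl⟩ := List.mem_map.mp hr
      rw [evL_cons, evL_singleton]
      by_cases h : l = 38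
      · subst h; exact g2
      · have : invL invG l = invL P.inv l ∧ invL P.inv l ≠ 38 := by
          clear * - hl h; revert l; decide +kernel
        rw [this.1, e1, e1, if_neg h, if_neg this.2, (gd E).inv, inv_mul_cancel]

theorem ho1 (w : List ℕ) (h : ck w = true) : evL (e1 E g) w = 1 := by
  rw [e1_evL (Bool.and_eq_true _ _ ▸ h).1, ho E w h]

variable {σ : List (List ℕ)}

theorem rcj (g2 : g * g = 1) (h : Cj (ε E) g AL σ) {l : ℕ} {w : List ℕ}
    (hc : (AL.elem l && inR 38 (l :: w) && ck (σ.getD l [] ++ w)) = true) :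
    evL (e1 E g) (38 :: l :: 38 :: w) = 1 := by
  simp only [Bool.and_eq_true, List.elem_iff, inR, List.all_cons] at hc
  have := ho E _ hc.2
  rw [evL_append, ← evS, ← h l hc.1.1, inv_eq_of_mul_eq_one_right g2] at this
  rw [evL_cons, evL_cons, evL_cons, e1_evL hc.1.2.2, ← this, e1, e1, if_pos rfl,
    if_neg (by have := hc.1.2.1.2; rw [Nat.blt_eq] at this; omega)]
  group

theorem rel5 (C : Ch E t) (g2 : g * g = 1) (h : Cj (ε E) g AL σ) (h9 : σ.getD 9 [] = [9]) {n : ℕ}
    (hn : n ∈ [1, 2]) {c : List ℕ} {k : ℕ} {π : ℕ → ℕ}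
    (hc : (inR 38 c && ck (c ++ c) && ck (c ++ [9] ++ invW P.inv ([9] ++ c)) &&
      ((List.range (El n).length).all fun v => ((El n).getD v []).all AL.elem &&
        Nat.blt (π v) (El n).length && ck (invW P.inv c ++ subst σ ((El n).getD v []) ++ c ++
          invW P.inv ((El n).getD (π v) []))) &&
      ((List.range (El n).length).all fun v => Nat.beq (π^[k] v) v) &&
      (List.range (El n).length).all fun v => Nat.beq v 0 ||
        mv ((El n).getD (π v) [] ++ invW P.inv ((El n).getD v []))) = true) :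
    evL (e1 E g) (rp k (38 :: c)) = 1 := by
  simp only [Bool.and_eq_true] at hc
  obtain ⟨⟨⟨⟨⟨c1, c2⟩, c3⟩, c4⟩, c5⟩, c6⟩ := hc
  rw [evL_rp, evL_cons, e1_evL c1]
  refine (h.pm (gd E) (ho E) c4).rel g2 (by rw [← evL_append, ho E _ c2]) (εx3 E) (commute_of_cj (by
    rw [h 9 (by decide), evS, h9, evL_singleton])) (cwl E c3) c5 (fun v hv e => ?_) (C.cenE hn)
  have := List.all_eq_true.mp c6 v (List.mem_range.mpr hv)
  rw [Bool.or_eq_true, Nat.beq_eq] at this
  rcases this with rfl | c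
  · rfl
  · exact absurd e (C.ne c)

def RP : List (List ℕ) := [[3,3,3], [1,3,1,3,1,3], [2,3,2,3,2,3], [1,2,1,2,3,1,2,1,2,4], [3,5,3,5], [2,5,2,5], [1,4,5,1,4,5], [2,5,6,2,6], [3,6,3,6,3,6], [1,2,1,6,1,2,5,1,6], [3,7,3,7,3,7], [1,4,7,5,1,5,7,5], [1,2,1,5,1,7,2,7,1,5], [6,7,6,7,6,7], [9,9,9], [9,1,10,1], [9,2,10,2], [9,3,10,4], [9,5,10,5], [9,6,10,6], [9,7,10,7], [12,1,2,7,4,6,3], [14,7,6,1,2,4,6], [16,1,2,4,6,7,6], [8,9,8,12], [8,11,8,10], [8,13,8,14], [8,15,8,15], [8,2,7,2,8,2,7,2,8,2,7,2]]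

/-- The relations with the swapping element. -/
def RG (j : ℕ) : List (List ℕ) :=
  [[38, 1, 38, 1], [38, 2, 38, 2], 38 :: 3 :: 38 :: 3 :: rp j [10], [38, 10, 38, 9], rp 3 [38, 5],
    rp 5 [38, 6], rp 5 [38, 7], rp 5 [38, 4, 6, 3], rp 5 [38, 4, 7, 3]] ++ RP

theorem rels (C : Ch E t) (g2 : g * g = 1) {j : ℕ} (hj : j ∈ [0, 1]) (h : Cj (ε E) g AL (sG j)) :
    Rels (e1 E g) (RG j) := by
  refine rels_app ?_ fun r hr => ho1 r (by clear * - hr; revert r; decide +kernel)
  exact List.forall_mem_cons.mpr ⟨rcj g2 h (by clear * - hj; revert j; decide +kernel),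
    List.forall_mem_cons.mpr ⟨rcj g2 h (by clear * - hj; revert j; decide +kernel),
    List.forall_mem_cons.mpr ⟨rcj g2 h (by clear * - hj; revert j; decide +kernel),
    List.forall_mem_cons.mpr ⟨rcj g2 h (by clear * - hj; revert j; decide +kernel),
    List.forall_mem_cons.mpr ⟨rel5 C g2 h rfl (n := 1) (by simp) (π := (fun v => [0,3,1,2,12,15,13,14,4,7,5,6,8,11,9,10].getD v 0))
      (by clear * - hj; revert j; decide +kernel), List.forall_mem_cons.mpr ⟨rel5 C g2 h rfl (n := 1) (by simp) (π := (fun v => [0,11,1,10,5,14,4,15,13,6,12,7,8,3,9,2].getD v 0))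
      (by clear * - hj; revert j; decide +kernel), List.forall_mem_cons.mpr ⟨rel5 C g2 h rfl (n := 2) (by simp) (π := (fun v => [0,11,1,10,5,14,4,15,13,6,12,7,8,3,9,2].getD v 0))
      (by clear * - hj; revert j; decide +kernel), List.forall_mem_cons.mpr ⟨rel5 C g2 h rfl (n := 1) (by simp) (π := (fun v => [0,15,1,14,5,10,4,11,12,3,13,2,9,6,8,7].getD v 0))
      (by clear * - hj; revert j; decide +kernel), List.forall_mem_cons.mpr ⟨rel5 C g2 h rfl (n := 2) (by simp) (π := (fun v => [0,15,1,14,5,10,4,11,12,3,13,2,9,6,8,7].getD v 0))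
      (by clear * - hj; revert j; decide +kernel), by simp⟩⟩⟩⟩⟩⟩⟩⟩⟩

theorem bend [Finite G] (C : Ch E t) (hs : g⁻¹ * ε E 17 * g = ε E 18) {X K : Subgroup G}
    (hXK : X ≤ K) (hg : g ∈ X) (h0 : ∀ p, Commute p (P.ev 9) → E p ∈ K)
    (hc : ∀ p, E p ∈ K → E p ∈ X) (hi : ∀ p, E p ∈ K → p * p = 1 → p ≠ 1 →
      p = P.ev 17 ∨ ∃ k, E k ∈ K ∧ k⁻¹ * P.ev 18 * k = p) : K ≤ X := by
  have w0 : ∀ w, ck (w ++ [9] ++ invW P.inv ([9] ++ w)) = true → evL (ε E) w ∈ X := fun w h => by
    rw [ε_evL]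
    exact hc _ (h0 _ (evL_singleton P.ev 9 ▸ P.comm_of h))
  have tX : ε E 17 ∈ X := evL_singleton (ε E) 17 ▸ w0 [17] (by decide +kernel)
  refine bender_le hXK (sq E (a := 17) (by decide +kernel)) (C.l1 (by decide +kernel)) tX
    (fun y hy c => ?_) (fun y hy c y2 y1 => ?_)
    (hXK (evL_singleton (ε E) 18 ▸ w0 [18] (by decide +kernel))) (sq E (by decide +kernel))
    (C.l1 (by decide +kernel)) (fun e => C.ne (u := [18]) (v := [17]) (by decide +kernel) (by
      rw [evL_singleton, evL_singleton, e])) (cT' E 18)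
    (not_solvable_of_comm (w0 [11] (by decide +kernel)) (w0 [1, 7] (by decide +kernel))
      (w0 [1, 6] (by decide +kernel)) (C.hm (by decide +kernel)) (k := 2) ?_)
  · obtain ⟨p, rfl⟩ := C.cen y (C.et ▸ c)
    exact hc p hy
  · obtain ⟨p, rfl⟩ := C.cen y (C.et ▸ c)
    rcases hi p hy (C.inj (by rw [map_mul, y2, map_one])) (fun e => y1 (by rw [e, map_one])) with
      rfl | ⟨k, hk, rfl⟩
    · exact ⟨1, one_mem _, by rw [inv_one, one_mul, mul_one]; rfl⟩
    · refine ⟨g * E k, mul_mem hg (hc k hk), ?_⟩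
      rw [map_mul, map_mul, map_inv, show E (P.ev 18) = _ from hs.symm]
      group
  · rw [commutatorElement_def]
    simp only [← evL_invW (gd E), ← evL_append, ← evL_rp]
    exact eq_of_chk (gd E) (ho E) (by decide +kernel)

theorem cenx [Finite G] (C : Ch E t) (hs : g⁻¹ * ε E 17 * g = ε E 18) {X : Subgroup G}
    (hX : ∀ y ∈ X, Commute y (ε E 9)) (hg : g ∈ X) (hl : ∀ l ∈ [1, 2, 3, 5, 6, 7, 9], ε E l ∈ X)
    {y : G} (hy : Commute y (ε E 9)) : y ∈ X := by
  have a : ∀ p, E p ∈ Subgroup.centralizer {ε E 9} ↔ Commute p (P.ev 9) := fun p => by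
    rw [Subgroup.mem_centralizer_singleton_iff]
    exact ⟨fun h => C.inj (by rw [map_mul, map_mul]; exact h), fun h => (h.map E).eq⟩
  refine bend C hs (K := Subgroup.centralizer {ε E 9})
    (fun y hy => Subgroup.mem_centralizer_singleton_iff.mpr (hX y hy)) hg (fun p => (a p).mpr)
    (fun p hp => ?_) (fun p hp p2 p1 => (P.invol_x p2 p1 ((a p).mp hp)).imp_right
      fun ⟨k, k1, k2⟩ => ⟨k, (a k).mpr k1, k2⟩) (Subgroup.mem_centralizer_singleton_iff.mpr hy)
  refine (show (gen P.ev P.XC).map E ≤ X from ?_) ⟨p, P.cx ((a p).mp hp), rfl⟩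
  rw [map_gen]
  refine le_trans (gen_le_of_memChk (Ws := [[1], [2], [3], [5], [6], [7], [9]]) (gd E)
    (V := [[0], [1], [2], [9], [3], [4], [5], [6], [13]]) (by decide +kernel)) (gen_le fun w hw => ?_)
  obtain ⟨l, hl', rfl⟩ : ∃ l ∈ [1, 2, 3, 5, 6, 7, 9], w = [l] := by clear * - hw; revert w; decide
  exact evL_singleton (ε E) l ▸ hl l hl'

def sgH : List (List ℕ) := [[], [1], [2], [3], [4], [5], [6], [7], [38], [9], [10], [11], [12], [13], [14], [15], [16], [6,3,38,6,7,6,38,4,6]]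

def sgM : List (List ℕ) := [[], [1], [2], [3], [4], [5], [6], [7], [38], [], [], [11], [12], [13], [14], [15], [16], [6,3,38,6,7,6,38,4,6]]

theorem hy (E : P.Grp →* G) : (ε E 8)⁻¹ * ε E 11 * ε E 8 = ε E 9 := by
  have := cj_of_chk (gd E) (ho E) (c := [8]) (u := [11]) (v := [9]) (by decide +kernel)
  rwa [evL_singleton, evL_singleton, evL_singleton] at this

theorem not_split [Finite G] (C : Ch E t) (g2 : g * g = 1) (h : Cj (ε E) g AL (sG 0)) : False := by
  have R := rels C g2 (by simp) h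
  obtain ⟨θ, hθ⟩ := M.lift (ev' := evS (e1 E g) sgM) (good_evS (gd1 g2) R (by decide +kernel))
    (rels_evS_cyc (gd1 g2) R (by decide +kernel))
  have a : ∀ l ∈ [1, 2, 3, 5, 6, 7, 11], θ (M.ev l) = ε E l := fun l hl => by
    rw [hθ, evS, show sgM.getD l [] = [l] by clear * - hl; revert l; decide, evL_singleton, e1,
      if_neg (by clear * - hl; revert l; decide)]
  have a8 : θ (M.ev 8) = g := (hθ 8).trans (evL_singleton _ _)
  have cx : ∀ m, Commute (θ m) (ε E 9) := fun m =>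
    Subgroup.mem_centralizer_singleton_iff.mp ((show ⊤ ≤ (Subgroup.centralizer {ε E 9}).comap θ from
      M.hX8 ▸ gen_le fun w hw => Subgroup.mem_centralizer_singleton_iff.mpr (by
        obtain rfl | ⟨l, hl, rfl, hc⟩ : w = [8] ∨ ∃ l ∈ [1, 2, 3, 5, 6, 7, 11], w = [l] ∧
            ck ([l] ++ [9] ++ invW P.inv ([9] ++ [l])) = true := by
          clear * - hw; revert w; decide +kernel
        · rw [evL_singleton, a8]
          exact commute_of_cj ((h 9 (by decide)).trans (evL_singleton _ _))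
        · rw [evL_singleton, a l hl]
          exact cl E hc)) (Subgroup.mem_top m))
  let Θ := θ.noncommCoprod (zpowersHom G (ε E 9)) fun m n => (cx m).zpow_right _
  have key : ∀ y, Commute y (ε E 9) → ∃ m, ∃ i : ℤ, y = θ m * ε E 9 ^ i := fun y hy => by
    obtain ⟨z, rfl⟩ := cenx C ((h 17 (by decide)).trans (evL_singleton _ _)) (X := Θ.range)
      (by rintro _ ⟨z, rfl⟩; exact (cx _).mul_left ((Commute.refl _).zpow_left _))
      ⟨(M.ev 8, 1), (show θ _ * ε E 9 ^ (0 : ℤ) = _ by rw [a8, zpow_zero, mul_one])⟩ (fun l hl => by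
        obtain rfl | hl : l = 9 ∨ l ∈ [1, 2, 3, 5, 6, 7, 11] := by clear * - hl; revert l; decide
        · exact ⟨(1, Multiplicative.ofAdd 1), (show θ 1 * ε E 9 ^ (1 : ℤ) = _ by
            rw [map_one, zpow_one, one_mul])⟩
        · exact ⟨(M.ev l, 1), (show θ _ * ε E 9 ^ (0 : ℤ) = _ by rw [a l hl, zpow_zero, mul_one])⟩) hy
    exact ⟨z.1, _, rfl⟩
  obtain ⟨u, v, hu, hv, e⟩ := H.split
  have c : ∀ u, Commute u (M.ev 11) → Commute ((ε E 8)⁻¹ * θ u * ε E 8) (ε E 9) := fun u hu => by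
    rw [← hy E, ← a 11 (by simp)]; exact commute_cj (hu.map θ) _
  obtain ⟨m, i, e1⟩ := key _ (c u hu)
  obtain ⟨n, k, e2⟩ := key _ (c v hv)
  have e3 : θ ⁅m, n⁆ = ε E 9 := by
    have : ⁅(ε E 8)⁻¹ * θ u * ε E 8, (ε E 8)⁻¹ * θ v * ε E 8⁆ = ε E 9 := by
      rw [← hy E, ← a 11 (by simp), ← e, commutatorElement_def, map_mul, map_mul, map_mul, map_inv,
        map_inv]
      group
    rw [← this, e1, e2, map_commutatorElement, commutatorElement_def, commutatorElement_def]
    have c1 := (cx n).zpow_right i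
    have c2 := (cx m).zpow_right k
    have c3 : Commute (ε E 9 ^ i) (ε E 9 ^ k) := (Commute.refl _).zpow_zpow i k
    generalize ε E 9 ^ i = p at c1 c3
    generalize ε E 9 ^ k = q at c2 c3
    rw [show θ m * p * (θ n * q) * (θ m * p)⁻¹ * (θ n * q)⁻¹ =
        θ m * (p * (θ n * q) * p⁻¹) * (θ m)⁻¹ * (θ n * q)⁻¹ by group, ← (c1.mul_left c3.symm).eq,
      mul_inv_cancel_right, show θ m * (θ n * q) * (θ m)⁻¹ * (θ n * q)⁻¹ =
        θ m * θ n * (q * (θ m)⁻¹ * q⁻¹) * (θ n)⁻¹ by group, ← c2.inv_left.eq, mul_inv_cancel_right]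
  have := M.simple
  have hi := injective_of_simple θ (x := M.ev 1) (by rw [a 1 (by simp)]; exact C.l1 (by decide +kernel))
  have z : ⁅m, n⁆ ∈ Subgroup.center M.Grp := Subgroup.mem_center_iff.mpr fun w => hi (by
    rw [map_mul, map_mul, e3]; exact (cx w).eq)
  rw [center_eq_bot_of_simple _ (by rw [M.main.1]; norm_num), Subgroup.mem_bot] at z
  exact C.l1 (a := 9) (by decide +kernel) (by rw [← e3, z, map_one])

def sgL : List (List ℕ) := sgH ++ [[8], [8]]

theorem main [Finite G] [IsSimpleGroup G] (ht : orderOf t = 2)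
    (hcov : IsNonsplitDoubleCover (Subgroup.centralizer ({t} : Set G)) (alternatingGroup (Fin 11))) :
    Nonempty (G ≃* Spor.Ly) := by
  obtain ⟨E, g, C, g2, j, hj, h⟩ := frame ht hcov
  obtain rfl | rfl : j = 0 ∨ j = 1 := by simpa using hj
  · exact (not_split C g2 h).elim
  have R := rels C g2 hj h
  have hs : g⁻¹ * ε E 17 * g = ε E 18 := (h 17 (by decide)).trans (evL_singleton _ _)
  obtain ⟨θ, hθ⟩ := H.lift (ev' := evS (e1 E g) sgH) (good_evS (gd1 g2) R (by decide +kernel))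
    (rels_evS_cyc (gd1 g2) R (by decide +kernel))
  have a : ∀ l ∈ [1, 2, 3, 5, 6, 7, 9, 10, 11, 12, 13, 14, 15, 16], θ (H.ev l) = ε E l := fun l hl => by
    rw [hθ, evS, show sgH.getD l [] = [l] by clear * - hl; revert l; decide, evL_singleton, e1,
      if_neg (by clear * - hl; revert l; decide)]
  have hi := H.inj θ (by rw [a 9 (by simp)]; exact C.l1 (by decide +kernel))
    (by rw [a 1 (by simp)]; exact C.l1 (by decide +kernel))
  have c : ∀ u v l, H.chk ([17] ++ [u] ++ invW 1486034431776358958537884813664031080579328 ([u] ++ [17])) = true →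
      ck (invW P.inv [8] ++ [u] ++ [8] ++ invW P.inv [v]) = true → θ (H.ev u) = ε E u →
      l = ε E v → Commute ((ε E 8)⁻¹ * θ (H.ev 17) * ε E 8) l := fun u v l h1 h2 h3 h4 => by
    have b1 := (H.cm h1).map θ
    have b2 := cj_of_chk (gd E) (ho E) h2
    rw [evL_singleton, evL_singleton] at b1
    rw [evL_singleton, evL_singleton, evL_singleton] at b2
    rw [h4, ← b2, ← h3]
    exact commute_cj b1 _
  obtain ⟨z, hz⟩ := cenx C hs (X := θ.range) (by
      rintro _ ⟨z, rfl⟩
      rw [← a 9 (by simp)]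
      exact (show Commute z (H.ev 9) from Subgroup.mem_center_iff.mp H.cen z).map θ)
    ⟨_, (hθ 8).trans (evL_singleton _ _)⟩
    (fun l hl => ⟨_, a l (by clear * - hl; revert l; decide)⟩)
    (c 11 9 _ (by decide +kernel) (by decide +kernel) (a 11 (by simp)) rfl)
  obtain ⟨w, hw, rfl⟩ := H.cand (z := z) (hi (by
      rw [map_mul, map_mul, hz, evL_singleton]
      exact (c 9 11 _ (by decide +kernel) (by decide +kernel) (a 9 (by simp)) (a 11 (by simp))).eq))
    (hi (by
      rw [map_mul, map_mul, hz, evL_singleton]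
      exact (c 13 13 _ (by decide +kernel) (by decide +kernel) (a 13 (by simp)) (a 13 (by simp))).eq))
    (hi (by
      have := H.ora [17, 17] (by decide +kernel)
      rw [evL_cons, evL_singleton] at this
      rw [map_mul, hz, map_one, sq_cj (by rw [← map_mul, this, map_one])]))
  have cj : Cj (fun l => θ (H.ev l)) (ε E 8) H.KL (H.sc w) := fun l hl => by
    obtain rfl | ⟨v, hl, hv, e, k⟩ : l = 17 ∨ ∃ v, l ∈ [1, 2, 3, 5, 6, 7, 9, 10, 11, 12, 13, 14, 15, 16] ∧
        v ∈ [1, 2, 3, 5, 6, 7, 9, 10, 11, 12, 13, 14, 15, 16] ∧ (H.sc w).getD l [] = [v] ∧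
        ck (invW P.inv [8] ++ [l] ++ [8] ++ invW P.inv [v]) = true := by
      simp only [H.KL, List.mem_cons, List.not_mem_nil, or_false] at hl
      rcases hl with rfl | rfl | rfl | rfl | rfl | rfl | rfl | rfl | rfl
      all_goals first | exact Or.inl rfl | exact Or.inr ⟨_, by simp, by simp, rfl, by decide +kernel⟩
    · rw [← hz, map_evL]; rfl
    · have := cj_of_chk (gd E) (ho E) k
      rw [evL_singleton, evL_singleton, evL_singleton] at this
      rw [evS, e, evL_singleton]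
      beta_reduce
      rw [a l hl, a v hv, this]
  have hp := H.pick hi hw cj (by
    have := ho E (rp 3 [8, 2, 7, 2]) (by decide +kernel)
    rw [evL_rp, evL_cons] at this
    rw [← this, map_evL]
    simp only [evL_cons, evL_nil, a 2 (by simp), a 7 (by simp)])
  subst hp
  have R2 : Rels (e1 E g) (([8] ++ subst sgH [17] ++ [8] ++ subst sgH (invW 1486034431776358958537884813664031080579328 [15,14,16,13,15,17,16,14,15,13,16])) :: RG 1) := by
    refine Rels.cons ?_ R
    have i8 : (ε E 8)⁻¹ = ε E 8 := inv_eq_of_mul_eq_one_right (sq E (by decide +kernel))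
    rw [evL_append, evL_append, evL_append, ← evL_subst, ← evL_subst, ← funext hθ, ← map_evL, ← map_evL,
      evL_invW H.hev, map_inv, hz, evL_singleton, evL_singleton, i8, mul_inv_eq_one]
    rfl
  obtain ⟨ψ, hψ⟩ := L.lift (ev' := evS (e1 E g) sgL) (good_evS (gd1 g2) R2 (by decide +kernel))
    (rels_evS_cyc (gd1 g2) R2 (by decide +kernel))
  obtain ⟨ι⟩ := S.iso
  have := Ly.simple
  have := ι.isSimpleGroup
  have b : ∀ l ∈ [1, 2, 3, 4, 5, 6, 7, 8, 9, 10], ε E l ∈ ψ.range := fun l hl => by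
    obtain ⟨v, e, n⟩ : ∃ v ∈ List.range 20, sgL.getD v [] = [l] := by clear * - hl; revert l; decide
    exact ⟨L.ev v, by rw [hψ, evS, n, evL_singleton, e1, if_neg (by clear * - hl; revert l; decide)]⟩
  have sj := bend C hs (X := ψ.range) (K := ⊤) le_top ⟨_, (hψ 8).trans (evL_singleton _ _)⟩
    (fun _ _ => trivial) (fun p _ => by
      refine (show (gen P.ev P.X).map E ≤ ψ.range from ?_) ⟨p, P.hX ▸ Subgroup.mem_top p, rfl⟩
      rw [map_gen]
      refine gen_le fun w hw => ?_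
      obtain ⟨l, hl, rfl⟩ : ∃ l ∈ [1, 2, 3, 4, 5, 6, 7, 8, 9, 10], w = [l] := by
        clear * - hw; revert w; decide
      exact evL_singleton (ε E) l ▸ b l hl)
    fun p _ p2 p1 => (P.invol p2 p1).imp_right fun ⟨k, e⟩ => ⟨k, trivial, e⟩
  exact ⟨(MulEquiv.ofBijective ψ ⟨injective_of_simple ψ (x := L.ev 1) (by
    rw [hψ]
    exact fun e => C.l1 (a := 1) (by decide +kernel) ((evL_singleton _ _).symm.trans e)),
    fun y => sj (Subgroup.mem_top y)⟩).symm.trans ι⟩

end Cfsg.H6.LR
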